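import Groth.Agent.Theta44.GmPair
import Groth.Prelude.Def_ThetaS

/-!
Affine morphisms lift uniquely against the punctured Θ and the punctured two-branched stack.
-/

set_option autoImplicit false
set_option maxHeartbeats 1000000
set_option linter.style.haveILetI false
set_option backward.isDefEq.respectTransparency false
set_option backward.isDefEq.respectTransparency.types false
universe u

open CategoryTheory CategoryTheory.Limits MonoidalCategory CartesianMonoidalCategory AlgebraicGeometry AlgSt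
open Opposite
open scoped TensorProduct Polynomial

namespace Groth.Agent.Theta44

variable {R : Type u} [CommRing R]

theorem isUnit_zPow (n : ℤ) : IsUnit (ThetaS.zPow R n) :=
  IsUnit.of_mul_eq_one (ThetaS.zPow R (-n)) (by rw [ThetaS.zPow_mul, add_neg_cancel, ThetaS.zPow_zero])

theorem univPt_lineAction : univPt R R[X] ≫ (ThetaS.lineAction R).act =
    CoactBr.pt (ThetaS.linePt (A := R[X] ⊗[R] ThetaS.Lau R)
      ((Algebra.TensorProduct.includeRight (ThetaS.zPow R 1)) * ((Polynomial.X : R[X]) ⊗ₜ[R] 1))) := by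
  have h : (Algebra.TensorProduct.includeLeft : R[X] →ₐ[R] R[X] ⊗[R] ThetaS.Lau R) =
      ThetaS.linePt ((Polynomial.X : R[X]) ⊗ₜ[R] 1) := by
    apply Polynomial.algHom_ext
    simp
  unfold univPt
  rw [h]
  exact ThetaS.lineAction_pt _ _

/-- Killing one variable. -/
noncomputable def killVar (i : Fin 2) : MvPolynomial (Fin 2) R →ₐ[R] MvPolynomial (Fin 2) R :=
  MvPolynomial.aeval (Function.update MvPolynomial.X i 0)

@[simp] theorem killVar_X_self (i : Fin 2) : killVar i (MvPolynomial.X i : MvPolynomial (Fin 2) R) = 0 := by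
  simp [killVar]

theorem killVar_X_ne {i j : Fin 2} (h : j ≠ i) :
    killVar i (MvPolynomial.X j : MvPolynomial (Fin 2) R) = MvPolynomial.X j := by
  simp [killVar, h]

theorem X_dvd_sub_killVar (i : Fin 2) (g : MvPolynomial (Fin 2) R) : MvPolynomial.X i ∣ g - killVar i g := by
  induction g using MvPolynomial.induction_on with
  | C a => simp [killVar]
  | add f g hf hg => rw [map_add, add_sub_add_comm]; exact dvd_add hf hg
  | mul_X f j hf =>
    by_cases h : j = i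
    · subst h
      rw [map_mul, killVar_X_self, mul_zero, sub_zero]
      exact dvd_mul_left _ _
    · rw [map_mul, killVar_X_ne h, ← sub_mul]
      exact dvd_mul_of_dvd_left hf _

variable [IsDomain R] {π : R}

theorem sFn_regular (hπ : π ≠ 0) (c : ThetaS.STRing R π) (h : ThetaS.sFn R π * c = 0) : c = 0 := by
  obtain ⟨f, rfl⟩ := Ideal.Quotient.mk_surjective c
  rw [← map_mul, Ideal.Quotient.eq_zero_iff_mem, Ideal.mem_span_singleton] at h
  obtain ⟨g, hg⟩ := h
  rw [Ideal.Quotient.eq_zero_iff_mem, Ideal.mem_span_singleton]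
  have h1 := congrArg (killVar 0) hg
  simp only [map_mul, map_sub, killVar_X_self, zero_mul, zero_sub, MvPolynomial.algHom_C,
    MvPolynomial.algebraMap_eq] at h1
  have h2 : killVar 0 g = 0 := by
    rcases mul_eq_zero.1 h1.symm with h | h
    · exact absurd (by simpa using h) hπ
    · exact h
  obtain ⟨g', hg'⟩ := X_dvd_sub_killVar 0 g
  rw [h2, sub_zero] at hg'
  refine ⟨g', mul_left_cancel₀ (MvPolynomial.X_ne_zero 0) ?_⟩
  rw [hg, hg']
  ring

theorem sFn_tFn_regular (hπ : π ≠ 0) (c : ThetaS.STRing R π) (h : ThetaS.sFn R π ∣ ThetaS.tFn R π * c) :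
    ThetaS.sFn R π ∣ c := by
  obtain ⟨f, rfl⟩ := Ideal.Quotient.mk_surjective c
  obtain ⟨a, ha⟩ := h
  obtain ⟨a, rfl⟩ := Ideal.Quotient.mk_surjective a
  rw [← map_mul, ← map_mul, Ideal.Quotient.eq, Ideal.mem_span_singleton] at ha
  obtain ⟨b, hb⟩ := ha
  have h1 := congrArg (killVar 0) hb
  simp only [map_mul, map_sub, killVar_X_self, killVar_X_ne (show (1 : Fin 2) ≠ 0 by decide), zero_mul,
    sub_zero, zero_sub, MvPolynomial.algHom_C, MvPolynomial.algebraMap_eq] at h1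
  have h2 := congrArg (killVar 1) h1
  simp only [map_mul, map_neg, killVar_X_self, zero_mul, MvPolynomial.algHom_C,
    MvPolynomial.algebraMap_eq] at h2
  have h3 : killVar 1 (killVar 0 b) = 0 := by
    rcases mul_eq_zero.1 h2.symm with h | h
    · exact absurd (by simpa using h) hπ
    · exact h
  obtain ⟨b', hb'⟩ := X_dvd_sub_killVar 1 (killVar 0 b)
  rw [h3, sub_zero] at hb'
  have h4 : killVar 0 f = -MvPolynomial.C π * b' := by
    apply mul_left_cancel₀ (MvPolynomial.X_ne_zero (R := R) (1 : Fin 2))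
    rw [h1, hb']
    ring
  obtain ⟨k, hk⟩ := X_dvd_sub_killVar 0 f
  refine ⟨Ideal.Quotient.mk _ (k - MvPolynomial.X 1 * b'), ?_⟩
  rw [← map_mul, Ideal.Quotient.eq, Ideal.mem_span_singleton]
  refine ⟨b', ?_⟩
  rw [sub_eq_iff_eq_add.1 hk, h4]
  ring

theorem lift_pt_stAction {A : Type u} [CommRing A] [Algebra R A] (π : R) (lam : ThetaS.Lau R →ₐ[R] A)
    (g : ThetaS.STRing R π →ₐ[R] A) :
    ∃ ψ : ThetaS.STRing R π →ₐ[R] A,
      lift (CoactBr.pt lam) (CoactBr.pt g) ≫ (ThetaS.stAction R π).act = CoactBr.pt ψ ∧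
      ψ (ThetaS.sFn R π) = lam (ThetaS.zPow R 1) * g (ThetaS.sFn R π) ∧
      ψ (ThetaS.tFn R π) = lam (ThetaS.zPow R (-1)) * g (ThetaS.tFn R π) := by
  have hab : g (ThetaS.sFn R π) * g (ThetaS.tFn R π) = algebraMap R A π := by
    rw [← map_mul, ThetaS.sFn_mul_tFn, g.commutes]
  have h : g = ThetaS.stPt _ _ hab :=
    ThetaS.stRing_algHom_ext (ThetaS.stPt_sFn _ _ hab).symm (ThetaS.stPt_tFn _ _ hab).symm
  have h1 := ThetaS.stAction_pt lam _ _ hab
  rw [← h] at h1
  exact ⟨_, h1, ThetaS.stPt_sFn _ _ _, ThetaS.stPt_tFn _ _ _⟩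

theorem univPt_stAction (π : R) :
    ∃ ψ : ThetaS.STRing R π →ₐ[R] ThetaS.STRing R π ⊗[R] ThetaS.Lau R,
    univPt R (ThetaS.STRing R π) ≫ (ThetaS.stAction R π).act = CoactBr.pt ψ ∧
    ψ (ThetaS.sFn R π) = Algebra.TensorProduct.includeRight (ThetaS.zPow R 1) * (ThetaS.sFn R π ⊗ₜ[R] 1) ∧
    ψ (ThetaS.tFn R π) = Algebra.TensorProduct.includeRight (ThetaS.zPow R (-1)) * (ThetaS.tFn R π ⊗ₜ[R] 1) := by
  obtain ⟨ψ, h1, h2, h3⟩ := lift_pt_stAction (A := ThetaS.STRing R π ⊗[R] ThetaS.Lau R) π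
    Algebra.TensorProduct.includeRight Algebra.TensorProduct.includeLeft
  refine ⟨ψ, ?_, ?_, ?_⟩
  · unfold univPt
    exact h1
  · rw [h2, Algebra.TensorProduct.includeLeft_apply]
  · rw [h3, Algebra.TensorProduct.includeLeft_apply]

theorem liftsUniquely_thetaIncl [IsDiscreteValuationRing R] {S : Scheme.{u}} {ϖ : R} (hϖ : Irreducible ϖ)
    (h : Spec (CommRingCat.of R) ⟶ S) {𝒳 𝒴 : AlgSt.Cat S} (hX : FibCat.IsFibGrpd 𝒳.p) (hY : FibCat.IsFibGrpd 𝒴.p)
    {f : 𝒳 ⥤ᵇ 𝒴} (hf : RepByAlgSpWith (AlgSp.RepWith @IsAffineHom) f) :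
    LiftSq.LiftsUniquely (ThetaS.thetaIncl Scheme.fppfPrecoverage R ϖ h) f := by
  haveI := flat_gm R
  haveI := lfp_gm R
  refine liftsUniquely_gmPair h (ThetaS.lineAction R) Polynomial.X (Polynomial.C ϖ) ?_ ?_ _ univPt_lineAction
    ⟨_, (isUnit_zPow 1).map _, Polynomial.aeval_X _⟩ ⟨1, isUnit_one, ?_⟩ _ (fun A => Iff.rfl) hX hY hf
  · intro c hc
    exact (mul_eq_zero.1 hc).resolve_left Polynomial.X_ne_zero
  · intro c hc
    rw [Polynomial.X_dvd_iff, Polynomial.coeff_C_mul] at hc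
    exact Polynomial.X_dvd_iff.2 ((mul_eq_zero.1 hc).resolve_left hϖ.ne_zero)
  · rw [one_mul, Polynomial.aeval_C, Algebra.TensorProduct.algebraMap_apply, Polynomial.algebraMap_eq]

theorem liftsUniquely_stIncl [IsDiscreteValuationRing R] {S : Scheme.{u}} {π : R} (hπ : Irreducible π)
    (h : Spec (CommRingCat.of R) ⟶ S) {𝒳 𝒴 : AlgSt.Cat S} (hX : FibCat.IsFibGrpd 𝒳.p) (hY : FibCat.IsFibGrpd 𝒴.p)
    {f : 𝒳 ⥤ᵇ 𝒴} (hf : RepByAlgSpWith (AlgSp.RepWith @IsAffineHom) f) :
    LiftSq.LiftsUniquely (ThetaS.stIncl Scheme.fppfPrecoverage R π h) f := by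
  haveI := flat_gm R
  haveI := lfp_gm R
  obtain ⟨ψ, hψ, hs, ht⟩ := univPt_stAction (R := R) π
  exact liftsUniquely_gmPair h (ThetaS.stAction R π) (ThetaS.sFn R π) (ThetaS.tFn R π)
    (sFn_regular hπ.ne_zero) (sFn_tFn_regular hπ.ne_zero) ψ hψ
    ⟨_, (isUnit_zPow 1).map _, hs⟩ ⟨_, (isUnit_zPow (-1)).map _, ht⟩ _ (fun A => Iff.rfl) hX hY hf

end Groth.Agent.Theta44
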