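import Groth.Agent.Theta44.Pairs
import Groth.Prelude.Def_AlgSt3

/-!
Dotted arrows of a square with left side the inclusion of a full subcategory, from extension of compatible
families of pairs.
-/

set_option autoImplicit false
set_option linter.style.haveILetI false
set_option linter.unusedSectionVars false
set_option maxHeartbeats 1000000
set_option backward.isDefEq.respectTransparency false
set_option backward.isDefEq.respectTransparency.types false

universe v₄ u₄ v₃ u₃ v w u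

open CategoryTheory CategoryTheory.Functor AlgebraicGeometry

namespace Groth.Agent.Theta44

variable {S : Scheme.{u}} {𝒯 : BasedCategory.{v, w} (Over S)}
  {𝒳 : BasedCategory.{v₃, u₃} (Over S)} {𝒴 : BasedCategory.{v₄, u₄} (Over S)} {f : 𝒳 ⥤ᵇ 𝒴}
  (hX : FibCat.IsFibGrpd 𝒳.p) (hY : FibCat.IsFibGrpd 𝒴.p) [f.toFunctor.Faithful]
  {P : 𝒯.obj → Prop} (sq : LiftSq.Sq (AlgSt.subIncl 𝒯 P) f)
include hX hY

/-- The pair given by the top of the square. -/
def topPair (A : 𝒯.obj) (h : P A) : Pair f sq.bot A where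
  x := sq.top.obj ⟨A, h⟩
  over := sq.top.w_obj ⟨A, h⟩
  ι := sq.iso.inv.toNatTrans.app ⟨A, h⟩
  lift := sq.iso.inv.isHomLift' ⟨A, h⟩

theorem isRes_topPair {A A' : 𝒯.obj} (m : A' ⟶ A) (h : P A) (h' : P A') :
    IsRes m (topPair sq A' h') (topPair sq A h) := by
  let mj : (⟨A', h'⟩ : (AlgSt.fullSub 𝒯 P).obj) ⟶ ⟨A, h⟩ := ⟨m⟩
  refine ⟨sq.top.map mj, ?_, ?_⟩
  · have : (AlgSt.fullSub 𝒯 P).p.IsHomLift (𝒯.p.map m) mj := IsHomLift.map (AlgSt.fullSub 𝒯 P).p mj
    exact BasedFunctor.preserves_isHomLift sq.top _ mj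
  · exact sq.iso.inv.toNatTrans.naturality mj

theorem app_comp_app {𝒜 : BasedCategory.{v, w} (Over S)} {F G : 𝒜 ⥤ᵇ 𝒴} (e : F ≅ G) (a : 𝒜.obj) :
    e.hom.toNatTrans.app a ≫ e.inv.toNatTrans.app a = 𝟙 _ ∧
      e.inv.toNatTrans.app a ≫ e.hom.toNatTrans.app a = 𝟙 _ :=
  ⟨congrArg (fun t => t.toNatTrans.app a) e.hom_inv_id, congrArg (fun t => t.toNatTrans.app a) e.inv_hom_id⟩

theorem hasLift (ε : ∀ A, Cls f sq.bot A) (hε : IsNat hX hY ε)
    (htop : ∀ A (h : P A), ε A = cls (topPair sq A h)) : sq.HasLift := by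
  choose π hπ using fun A => cls_surjective (ε A)
  have hres : ∀ {A A' : 𝒯.obj} (m : A' ⟶ A), IsRes m (π A') (π A) := fun {A A'} m =>
    (res_cls_iff hX hY m _ _).1 (by rw [hπ, hπ]; exact hε m)
  choose θ hθ eθ using @hres
  have hu : ∀ {A A' : 𝒯.obj} (m : A' ⟶ A) (t : (π A').x ⟶ (π A).x),
      f.map t ≫ (π A).ι = (π A').ι ≫ sq.bot.map m → θ m = t := fun m t ht =>
    isRes_hom_unique hY m _ _ (eθ m) ht
  let F : 𝒯.obj ⥤ 𝒳.obj :=
    { obj := fun A => (π A).x
      map := fun m => θ m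
      map_id := fun A => hu _ _ (by rw [f.map_id, sq.bot.map_id, Category.id_comp, Category.comp_id])
      map_comp := fun {A B D} m n => hu _ _ (by
        rw [f.map_comp, Category.assoc, eθ n, reassoc_of% (eθ m), sq.bot.map_comp]) }
  have hw : F ⋙ 𝒳.p = 𝒯.p := by
    refine CategoryTheory.Functor.ext (fun A => (π A).over) fun A A' m => ?_
    have := hθ m
    exact IsHomLift.fac' 𝒳.p (𝒯.p.map m) (θ m)
  let fn : 𝒯 ⥤ᵇ 𝒳 := ⟨F, hw⟩
  have hι : ∀ A, IsIso (π A).ι := fun A => by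
    have := (π A).lift
    exact Fib44.isIso_of_fibGrpd 𝒴.p hY (𝟙 (𝒯.p.obj A)) _
  let β : sq.bot.toFunctor ≅ (BasedFunctor.comp fn f).toFunctor :=
    NatIso.ofComponents (fun A => (@asIso _ _ _ _ (π A).ι (hι A)).symm) (fun {A A'} m => by
      haveI := hι A
      haveI := hι A'
      change sq.bot.map m ≫ inv (π A').ι = inv (π A).ι ≫ f.map (θ m)
      rw [IsIso.comp_inv_eq, Category.assoc, eθ m, IsIso.inv_hom_id_assoc])
  let isoBot : sq.bot ≅ BasedFunctor.comp fn f := BasedNatIso.mkNatIso β fun A => by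
    haveI := hι A
    have := (π A).lift
    change 𝒴.p.IsHomLift (𝟙 (𝒯.p.obj A)) (inv (π A).ι)
    infer_instance
  have ht : ∀ a : (AlgSt.fullSub 𝒯 P).obj, IsRes (𝟙 a.obj) (π a.obj) (topPair sq a.obj a.property) :=
    fun a => (cls_eq_iff hX _ _).1 ((hπ _).trans (htop _ a.property))
  choose χ hχ eχ using ht
  have hχ' : ∀ a, 𝒳.p.IsHomLift (𝟙 (𝒯.p.obj a.obj)) (χ a) := fun a => by
    have := hχ a
    rwa [𝒯.p.map_id] at this
  have eχ' : ∀ a, f.map (χ a) = (π a.obj).ι ≫ sq.iso.hom.toNatTrans.app a := by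
    intro a
    have h1 : f.map (χ a) ≫ sq.iso.inv.toNatTrans.app a = (π a.obj).ι := by
      have := eχ a
      rw [sq.bot.map_id, Category.comp_id] at this
      exact this
    rw [← h1, Category.assoc, (app_comp_app hX hY sq.iso a).2]
    exact (Category.comp_id _).symm
  let τ : (BasedFunctor.comp (AlgSt.subIncl 𝒯 P) fn).toFunctor ≅ sq.top.toFunctor :=
    NatIso.ofComponents
      (fun a => @asIso _ _ _ _ (χ a)
        (by have := hχ' a; exact Fib44.isIso_of_fibGrpd 𝒳.p hX (𝟙 (𝒯.p.obj a.obj)) _))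
      (fun {a a'} m => f.toFunctor.map_injective (by
        change f.map (θ m.hom ≫ χ a') = f.map (χ a ≫ sq.top.map m)
        rw [f.map_comp, f.map_comp, eχ', eχ', reassoc_of% (eθ m.hom), Category.assoc]
        exact congrArg ((π a.obj).ι ≫ ·) (sq.iso.hom.toNatTrans.naturality m)))
  let isoTop : BasedFunctor.comp (AlgSt.subIncl 𝒯 P) fn ≅ sq.top := BasedNatIso.mkNatIso τ fun a => hχ' a
  refine ⟨⟨fn, isoTop, isoBot, ?_⟩⟩
  apply BasedNatTrans.homCategory.ext
  ext a
  haveI := hι a.obj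
  change inv (π a.obj).ι ≫ f.map (χ a) = sq.iso.hom.toNatTrans.app a
  rw [eχ', IsIso.inv_hom_id_assoc]

/-- The family of pairs of a dotted arrow. -/
def liftPair (d : sq.Lift) (A : 𝒯.obj) : Pair f sq.bot A where
  x := d.fn.obj A
  over := d.fn.w_obj A
  ι := d.isoBot.inv.toNatTrans.app A
  lift := d.isoBot.inv.isHomLift' A

theorem isNat_liftPair (d : sq.Lift) : IsNat hX hY fun A => cls (liftPair sq d A) := fun {A A'} m =>
  (res_cls_iff hX hY m _ _).2
    ⟨d.fn.map m, BasedFunctor.preserves_isHomLift d.fn (𝒯.p.map m) m, d.isoBot.inv.toNatTrans.naturality m⟩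

theorem liftPair_top (d : sq.Lift) (A : 𝒯.obj) (h : P A) :
    cls (liftPair sq d A) = cls (topPair sq A h) := by
  refine (cls_eq_iff hX _ _).2 ⟨d.isoTop.hom.toNatTrans.app ⟨A, h⟩, ?_, ?_⟩
  · rw [𝒯.p.map_id]
    exact d.isoTop.hom.isHomLift' ⟨A, h⟩
  · rw [sq.bot.map_id, Category.comp_id]
    have e : d.isoBot.hom.toNatTrans.app A ≫ f.map (d.isoTop.hom.toNatTrans.app ⟨A, h⟩) =
        sq.iso.hom.toNatTrans.app ⟨A, h⟩ := congrArg (fun t => t.toNatTrans.app (⟨A, h⟩ : (AlgSt.fullSub 𝒯 P).obj)) d.w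
    have e2 := congrArg (d.isoBot.inv.toNatTrans.app A ≫ ·) e
    simp only [← Category.assoc, (app_comp_app hX hY d.isoBot A).2] at e2
    change f.map (d.isoTop.hom.toNatTrans.app ⟨A, h⟩) ≫ sq.iso.inv.toNatTrans.app ⟨A, h⟩ =
      d.isoBot.inv.toNatTrans.app A
    rw [show f.map (d.isoTop.hom.toNatTrans.app ⟨A, h⟩) = d.isoBot.inv.toNatTrans.app A ≫
      sq.iso.hom.toNatTrans.app ⟨A, h⟩ from (Category.id_comp _).symm.trans e2, Category.assoc,
      (app_comp_app hX hY sq.iso ⟨A, h⟩).1]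
    exact Category.comp_id _

theorem isMono_cancel (d' : sq.Lift) (A : 𝒯.obj) {z : 𝒴.obj} (u v : z ⟶ f.obj (d'.fn.obj A))
    (h : u ≫ d'.isoBot.inv.toNatTrans.app A = v ≫ d'.isoBot.inv.toNatTrans.app A) : u = v := by
  haveI : IsIso (d'.isoBot.inv.toNatTrans.app A) :=
    ⟨⟨d'.isoBot.hom.toNatTrans.app A, (app_comp_app hX hY d'.isoBot A).2, (app_comp_app hX hY d'.isoBot A).1⟩⟩
  exact (cancel_mono _).1 h

theorem isEpi_cancel (d' : sq.Lift) (A : 𝒯.obj) {z : 𝒴.obj} (u v : f.obj (d'.fn.obj A) ⟶ z)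
    (h : d'.isoBot.hom.toNatTrans.app A ≫ u = d'.isoBot.hom.toNatTrans.app A ≫ v) : u = v := by
  haveI : IsIso (d'.isoBot.hom.toNatTrans.app A) :=
    ⟨⟨d'.isoBot.inv.toNatTrans.app A, (app_comp_app hX hY d'.isoBot A).1, (app_comp_app hX hY d'.isoBot A).2⟩⟩
  exact (cancel_epi _).1 h

theorem uniqLift (h : ∀ ε ε' : ∀ A, Cls f sq.bot A, IsNat hX hY ε → IsNat hX hY ε' →
      (∀ A (_ : P A), ε A = ε' A) → ε = ε') : sq.UniqLift := by
  intro d d'
  have he := h _ _ (isNat_liftPair hX hY sq d) (isNat_liftPair hX hY sq d') fun A hA =>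
    (liftPair_top hX hY sq d A hA).trans (liftPair_top hX hY sq d' A hA).symm
  have hr : ∀ A, IsRes (𝟙 A) (liftPair sq d A) (liftPair sq d' A) := fun A =>
    (cls_eq_iff hX _ _).1 (congrFun he A)
  choose χ hχ eχ using hr
  have eb : ∀ A, f.map (χ A) ≫ d'.isoBot.inv.toNatTrans.app A = d.isoBot.inv.toNatTrans.app A := fun A => by
    have := eχ A
    rw [sq.bot.map_id, Category.comp_id] at this
    exact this
  have eh : ∀ A, d.isoBot.hom.toNatTrans.app A ≫ f.map (χ A) = d'.isoBot.hom.toNatTrans.app A := by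
    intro A
    have e1 : f.map (χ A) = d.isoBot.inv.toNatTrans.app A ≫ d'.isoBot.hom.toNatTrans.app A := by
      rw [← eb A, Category.assoc, (app_comp_app hX hY d'.isoBot A).2]
      exact (Category.comp_id _).symm
    rw [e1, ← Category.assoc, (app_comp_app hX hY d.isoBot A).1]
    exact Category.id_comp _
  let θ : d.fn ⟶ d'.fn :=
    { toNatTrans :=
        { app := χ
          naturality := fun A A' m => f.toFunctor.map_injective (by
            change f.map (d.fn.map m ≫ χ A') = f.map (χ A ≫ d'.fn.map m)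
            refine isMono_cancel hX hY sq d' A' _ _ ?_
            rw [f.map_comp, f.map_comp, Category.assoc, Category.assoc, eb A',
              show f.map (d'.fn.map m) ≫ d'.isoBot.inv.toNatTrans.app A' =
                d'.isoBot.inv.toNatTrans.app A ≫ sq.bot.map m from d'.isoBot.inv.toNatTrans.naturality m,
              reassoc_of% (eb A)]
            exact d.isoBot.inv.toNatTrans.naturality m) }
      isHomLift' := fun A => by
        have := hχ A
        rwa [𝒯.p.map_id] at this }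
  have wb : d.isoBot.hom ≫ BasedCategory.whiskerRight θ f = d'.isoBot.hom := by
    apply BasedNatTrans.homCategory.ext; ext A; exact eh A
  have wt : BasedCategory.whiskerLeft (AlgSt.subIncl 𝒯 P) θ ≫ d'.isoTop.hom = d.isoTop.hom := by
    apply BasedNatTrans.homCategory.ext; ext a
    change χ a.obj ≫ d'.isoTop.hom.toNatTrans.app a = d.isoTop.hom.toNatTrans.app a
    apply f.toFunctor.map_injective
    have e1 : d.isoBot.hom.toNatTrans.app a.obj ≫ f.map (d.isoTop.hom.toNatTrans.app a) =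
        sq.iso.hom.toNatTrans.app a := congrArg (fun t => t.toNatTrans.app a) d.w
    have e2 : d'.isoBot.hom.toNatTrans.app a.obj ≫ f.map (d'.isoTop.hom.toNatTrans.app a) =
        sq.iso.hom.toNatTrans.app a := congrArg (fun t => t.toNatTrans.app a) d'.w
    change f.map (χ a.obj ≫ d'.isoTop.hom.toNatTrans.app a) = f.map (d.isoTop.hom.toNatTrans.app a)
    refine isEpi_cancel hX hY sq d a.obj _ _ ?_
    rw [f.map_comp, reassoc_of% (eh a.obj), e2, e1]
  refine ⟨⟨⟨⟨θ, wt, wb⟩⟩, fun φ => ?_⟩⟩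
  refine LiftSq.Sq.Lift.hom_ext (BasedNatTrans.homCategory.ext _ _ (NatTrans.ext (funext fun A => ?_)))
  apply f.toFunctor.map_injective
  refine isEpi_cancel hX hY sq d A _ _ ?_
  exact (congrArg (fun t => t.toNatTrans.app A) φ.w_bot).trans (eh A).symm

/-- A square fills uniquely as soon as the top's family of pairs extends uniquely. -/
theorem uniquelyFills
    (hex : ∀ τ : ∀ A, P A → Cls f sq.bot A,
      (∀ {A A' : 𝒯.obj} (m : A' ⟶ A) (h : P A) (h' : P A'), res hX hY m (τ A h) = τ A' h') →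
        ∃ ε : ∀ A, Cls f sq.bot A, IsNat hX hY ε ∧ ∀ A (h : P A), ε A = τ A h)
    (huniq : ∀ ε ε' : ∀ A, Cls f sq.bot A, IsNat hX hY ε → IsNat hX hY ε' →
      (∀ A (_ : P A), ε A = ε' A) → ε = ε') : sq.UniquelyFills := by
  obtain ⟨ε, hε, ht⟩ := hex (fun A h => cls (topPair sq A h)) fun m h h' =>
    (res_cls_iff hX hY m _ _).2 (isRes_topPair hX hY sq m h h')
  exact ⟨hasLift hX hY sq ε hε ht, uniqLift hX hY sq huniq⟩

end Groth.Agent.Theta44
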