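import Groth.Agent.Theta44.Extend
import Groth.Agent.Theta44.LiftsOf
import Groth.Agent.AlgSt88.QuotFib
import Groth.Agent.AlgSt88.QuotStackFib
import Groth.Agent.AlgSt88.QuotTorsor
import Groth.Prelude.Def_ThetaS

/-!
Affine morphisms fill squares whose left side is the inclusion of an open part of a quotient category
outside of which functions extend.
-/

set_option autoImplicit false
set_option maxHeartbeats 1000000
set_option linter.style.haveILetI false
set_option linter.unusedSectionVars false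
set_option backward.isDefEq.respectTransparency false
set_option backward.isDefEq.respectTransparency.types false
universe u

open CategoryTheory CategoryTheory.Limits MonoidalCategory CartesianMonoidalCategory AlgebraicGeometry AlgSt
open Groth.Agent.AlgSt88
open scoped MonObj GrpObj

namespace Groth.Agent.Theta44

variable {S' S : Scheme.{u}} (h : S' ⟶ S)

theorem isFibGrpd_overS {𝒯 : AlgSt.Cat S'} (hT : FibCat.IsFibGrpd 𝒯.p) :
    FibCat.IsFibGrpd (ThetaS.overS h 𝒯).p := by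
  refine isFibGrpd_of (fun {A V} g => ?_) (fun {z y x} φ ψ g e => ?_)
  · let g' : Over.mk (g.left ≫ (𝒯.p.obj A).hom) ⟶ 𝒯.p.obj A := Over.homMk g.left rfl
    obtain ⟨B, hB, φ, hφ⟩ := fg_exists_lift hT g'
    have hV : (Over.map h).obj (𝒯.p.obj B) = V := by
      have key : ∀ (W : Over S) (l : W.left ⟶ (𝒯.p.obj A).left), (l ≫ (𝒯.p.obj A).hom) ≫ h = W.hom →
          (Over.map h).obj (Over.mk (l ≫ (𝒯.p.obj A).hom)) = W := by
        rintro ⟨L, ⟨⟨⟩⟩, q⟩ l e
        change Over.mk ((l ≫ (𝒯.p.obj A).hom) ≫ h) = _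
        rw [e]
        rfl
      rw [hB]
      exact key V g.left ((Category.assoc _ _ _).trans (Over.w g))
    refine ⟨B, hV, φ, Over.OverMorphism.ext ?_⟩
    change (𝒯.p.map φ).left = _
    rw [hφ]
    have key : ∀ {U U' : Over S} (e : U = U'), (eqToHom e).left = eqToHom (congrArg (fun W => W.left) e) := by
      rintro U _ rfl; rfl
    have key' : ∀ {U U' : Over S'} (e : U = U'), (eqToHom e).left = eqToHom (congrArg (fun W => W.left) e) := by
      rintro U _ rfl; rfl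
    change (eqToHom hB).left ≫ g.left = (eqToHom hV).left ≫ g.left
    rw [key, key']
  · have hg : g.left ≫ (𝒯.p.obj y).hom = (𝒯.p.obj z).hom := by
      have h1 : g.left ≫ (𝒯.p.map φ).left = (𝒯.p.map ψ).left := congrArg (fun t => t.left) e
      rw [← Over.w (𝒯.p.map φ), ← Category.assoc, h1, Over.w]
    let g' : 𝒯.p.obj z ⟶ 𝒯.p.obj y := Over.homMk g.left hg
    obtain ⟨χ, h1, h2⟩ := fg_exists_fac hT φ ψ g' (Over.OverMorphism.ext (congrArg (fun t => t.left) e))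
    refine ⟨χ, ⟨Over.OverMorphism.ext (congrArg (fun t => t.left) h1), h2⟩, fun χ' hχ' => ?_⟩
    exact fg_hom_ext hT φ (Over.OverMorphism.ext
      ((congrArg (fun t => t.left) hχ'.1).trans (congrArg (fun t => t.left) h1).symm)) (hχ'.2.trans h2.symm)

variable {G X : Over S'} [GrpObj G] [Flat G.hom] [LocallyOfFinitePresentation G.hom] [IsAffine X.left]
  [IsAffine (G ⊗ X).left] (a : AlgGrp.Action G X) (V : X.left.Opens)

/-- The objects lying over the open part. -/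
def Lands (A : (ThetaS.overS h (QuotSt Scheme.fppfPrecoverage G a)).obj) : Prop := A.φ.left ⁻¹ᵁ V = ⊤

theorem lands_down {A A' : (ThetaS.overS h (QuotSt Scheme.fppfPrecoverage G a)).obj} (m : A' ⟶ A)
    (hA : Lands h a V A) : Lands h a V A' := by
  unfold Lands at hA ⊢
  rw [← m.wφ]
  change m.top.left ⁻¹ᵁ (A.φ.left ⁻¹ᵁ V) = ⊤
  rw [hA]
  rfl

theorem liftsUniquely_of_affine {𝒳 𝒴 : AlgSt.Cat S} (hX : FibCat.IsFibGrpd 𝒳.p) (hY : FibCat.IsFibGrpd 𝒴.p)
    {f : 𝒳 ⥤ᵇ 𝒴} (hf : RepByAlgSpWith (AlgSp.RepWith @IsAffineHom) f)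
    (hinv : a.act.left ⁻¹ᵁ V = (snd G X).left ⁻¹ᵁ V) (hV : Function.Bijective V.ι.appTop)
    (hW : Function.Injective (a.act.left ⁻¹ᵁ V).ι.appTop) :
    LiftSq.LiftsUniquely
      (AlgSt.subIncl (ThetaS.overS h (QuotSt Scheme.fppfPrecoverage G a)) (Lands h a V)) f := by
  intro sq
  haveI := faithful_of_repByAlgSp1 hX hY (repByAlgSp1_of_with hf)
  let A₀ : QuotObj Scheme.fppfPrecoverage G a := (quotMap Scheme.fppfPrecoverage G a).obj ⟨X, ⟨𝟙 X⟩⟩
  let A₁ : QuotObj Scheme.fppfPrecoverage G a := (quotMap Scheme.fppfPrecoverage G a).obj ⟨G ⊗ X, ⟨a.act⟩⟩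
  let w : (⟨G ⊗ X, ⟨a.act⟩⟩ : (ofSch X).obj) ⟶ ⟨X, ⟨𝟙 X⟩⟩ :=
    ⟨a.act, congrArg ULift.up (Category.comp_id a.act)⟩
  let n₁ : A₁ ⟶ A₀ := (quotMap Scheme.fppfPrecoverage G a).map w
  obtain ⟨n₂, hn₂, hn₂'⟩ : ∃ n₂ : A₁ ⟶ A₀, n₂.base = snd G X ∧
      n₂.top = lift (fst G (G ⊗ X) * (snd G (G ⊗ X) ≫ fst G X)) (snd G (G ⊗ X) ≫ snd G X) :=
    (exists_quot_hom_over a (snd G X) a.act (𝟙 X)).2 (fst G X) (by simp)
  have hA₀φ : A₀.φ = a.act := by
    change (G ◁ 𝟙 X) ≫ a.act = a.act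
    simp
  have hPiff : ∀ {A : QuotObj Scheme.fppfPrecoverage G a} (k : A ⟶ A₀),
      Lands h a V A ↔ Set.range k.base.left ⊆ (V : Set X.left) := by
    intro A k
    haveI := surjective_π A
    have e1 : A.φ = k.top ≫ a.act := by
      rw [← hA₀φ]
      exact k.wφ.symm
    have ew : k.top ≫ snd G X = A.π ≫ k.base := k.cart.w
    have h1 : A.φ.left ⁻¹ᵁ V = (A.π.left ≫ k.base.left) ⁻¹ᵁ V := by
      rw [← Over.comp_left, ← ew, e1, Over.comp_left, Over.comp_left, Scheme.Hom.comp_preimage,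
        Scheme.Hom.comp_preimage, hinv]
    unfold Lands
    rw [h1]
    constructor
    · rintro e _ ⟨x, rfl⟩
      obtain ⟨y, rfl⟩ := A.π.left.surjective x
      have : y ∈ (A.π.left ≫ k.base.left) ⁻¹ᵁ V := by rw [e]; trivial
      exact this
    · intro e
      rw [eq_top_iff]
      intro y _
      exact e ⟨A.π.left y, rfl⟩
  have hloc : ∀ A : QuotObj Scheme.fppfPrecoverage G a, ∃ (A' : QuotObj Scheme.fppfPrecoverage G a)
      (m : A' ⟶ A) (_ : A' ⟶ A₀), FppfHom ((Over.map h).map m.base) := by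
    intro A
    let w' : (⟨A.P, ⟨𝟙 A.P ≫ A.φ⟩⟩ : (ofSch X).obj) ⟶ ⟨X, ⟨𝟙 X⟩⟩ :=
      ⟨A.φ, congrArg ULift.up ((Category.comp_id A.φ).trans (Category.id_comp A.φ).symm)⟩
    refine ⟨_, pointHom A (𝟙 A.P), (quotMap Scheme.fppfPrecoverage G a).map w', ?_⟩
    have e : (𝟙 A.P ≫ A.π).left = A.π.left := by rw [Category.id_comp]
    exact ⟨e ▸ flat_π ‹_› A, e ▸ lfp_π ‹_› A, e ▸ surjective_π A⟩
  have hn : ∀ {A : QuotObj Scheme.fppfPrecoverage G a} (k k' : A ⟶ A₀),
      ∃ q : A ⟶ A₁, q ≫ n₁ = k ∧ q ≫ n₂ = k' := by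
    intro A k k'
    let y : A.base ⟶ X := k.base
    let y' : A.base ⟶ X := k'.base
    let wy : (⟨A.base, ⟨y⟩⟩ : (ofSch X).obj) ⟶ ⟨X, ⟨𝟙 X⟩⟩ := ⟨y, congrArg ULift.up (Category.comp_id y)⟩
    let t : (quotMap Scheme.fppfPrecoverage G a).obj ⟨A.base, ⟨y⟩⟩ ⟶ A₀ :=
      (quotMap Scheme.fppfPrecoverage G a).map wy
    obtain ⟨i, hi, hi'⟩ := exists_quot_iso_fac k t (Iso.refl A.base) (Category.id_comp _)
    have hj : i.inv.base = 𝟙 A.base := by
      have e : i.hom.base ≫ i.inv.base = 𝟙 A.base := congrArg (fun s => s.base) i.hom_inv_id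
      rw [hi] at e
      exact (Category.id_comp _).symm.trans e
    obtain ⟨g, hg, hg'⟩ : ∃ g : A.base ⟶ G, lift g (y' ≫ 𝟙 X) ≫ a.act = y ∧
        (i.inv ≫ k').top = lift (fst G A.base * (snd G A.base ≫ g)) (snd G A.base ≫ y') :=
      (exists_quot_hom_over a y' y (𝟙 X)).1 (i.inv ≫ k') (by
        show i.inv.base ≫ k'.base = k'.base
        rw [hj]; exact Category.id_comp _)
    rw [Category.comp_id] at hg
    let wq : (⟨A.base, ⟨y⟩⟩ : (ofSch X).obj) ⟶ ⟨G ⊗ X, ⟨a.act⟩⟩ :=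
      ⟨lift g y', congrArg ULift.up hg⟩
    let q₀ : (quotMap Scheme.fppfPrecoverage G a).obj ⟨A.base, ⟨y⟩⟩ ⟶ A₁ :=
      (quotMap Scheme.fppfPrecoverage G a).map wq
    refine ⟨i.hom ≫ q₀, ?_, ?_⟩
    · rw [Category.assoc, ← hi']
      congr 1
      refine QuotObj.hom_ext hg ?_
      change (G ◁ lift g y') ≫ (G ◁ a.act) = G ◁ y
      rw [← MonoidalCategory.whiskerLeft_comp, hg]
    · rw [Category.assoc, ← Iso.eq_inv_comp]
      refine QuotObj.hom_ext ?_ ?_
      · change lift g y' ≫ n₂.base = i.inv.base ≫ k'.base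
        rw [hn₂, hj]
        exact (lift_snd g y').trans (Category.id_comp y').symm
      · change (G ◁ lift g y') ≫ n₂.top = (i.inv ≫ k').top
        rw [hn₂', hg']
        show (G ◁ lift g y') ≫ lift (fst G (G ⊗ X) * (snd G (G ⊗ X) ≫ fst G X)) (snd G (G ⊗ X) ≫ snd G X) =
          lift (fst G A.base * (snd G A.base ≫ g)) (snd G A.base ≫ y')
        apply CartesianMonoidalCategory.hom_ext <;> simp [MonObj.comp_mul]
  haveI : IsAffine ((ThetaS.overS h (QuotSt Scheme.fppfPrecoverage G a)).p.obj A₀).left :=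
    inferInstanceAs (IsAffine X.left)
  haveI : IsAffine ((ThetaS.overS h (QuotSt Scheme.fppfPrecoverage G a)).p.obj A₁).left :=
    inferInstanceAs (IsAffine (G ⊗ X).left)
  obtain ⟨hex, huniq⟩ := extends_of_atlas (f := f) (b := sq.bot)
    (isFibGrpd_overS h (isFibGrpd_quotSt (K := Scheme.fppfPrecoverage) a)) hX hY hf (P := Lands h a V) A₀ V hV
    (fun k => hPiff k) (fun m hA => lands_down h a V m hA) hloc A₁ n₁ n₂ hn hW
  exact uniquelyFills hX hY sq hex huniq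

end Groth.Agent.Theta44
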