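import Mathlib.AlgebraicGeometry.AffineScheme
import Mathlib.AlgebraicGeometry.Restrict
import Mathlib.Topology.Sheaves.SheafCondition.UniqueGluing

/-!
Functions extend over the complement of the common zero locus of a regular pair.
-/

set_option autoImplicit false
set_option linter.style.haveILetI false
set_option backward.isDefEq.respectTransparency false
set_option backward.isDefEq.respectTransparency.types false
universe u

open CategoryTheory AlgebraicGeometry Opposite TopologicalSpace

namespace Groth.Agent.Theta44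

variable {X : Scheme.{u}} [IsAffine X] (p q : Γ(X, ⊤))

theorem res_res {U V W : X.Opens} (i : U ⟶ V) (j : V ⟶ W) (x : Γ(X, W)) :
    X.presheaf.map i.op (X.presheaf.map j.op x) = X.presheaf.map (i ≫ j).op x := by
  rw [op_comp, Functor.map_comp]
  rfl

theorem res_injective_of_regular (hp : ∀ a, p * a = 0 → a = 0) (U : X.Opens) (hU : X.basicOpen p ≤ U) :
    Function.Injective (X.presheaf.map (homOfLE (le_top : U ≤ ⊤)).op) := by
  intro s t h
  have h' := congrArg (fun z => X.presheaf.map (homOfLE hU).op z) h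
  simp only [res_res] at h'
  have h'' : algebraMap Γ(X, ⊤) Γ(X, X.basicOpen p) s = algebraMap Γ(X, ⊤) Γ(X, X.basicOpen p) t := h'
  rw [IsLocalization.eq_iff_exists (Submonoid.powers p)] at h''
  obtain ⟨⟨_, n, rfl⟩, hn⟩ := h''
  dsimp only at hn
  rw [← sub_eq_zero] at hn
  have hn' : p ^ n * (s - t) = 0 := by rw [mul_sub, hn]
  clear hn h h'
  induction n with
  | zero => rwa [pow_zero, one_mul, sub_eq_zero] at hn'
  | succ n ih => exact ih (hp _ (by rwa [pow_succ', mul_assoc] at hn'))

theorem res_surjective_of_regularPair (hp : ∀ a, p * a = 0 → a = 0) (hq : ∀ a, p ∣ q * a → p ∣ a)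
    (U : X.Opens) (hU : U = X.basicOpen p ⊔ X.basicOpen q) :
    Function.Surjective (X.presheaf.map (homOfLE (le_top : U ≤ ⊤)).op) := by
  intro σ
  have hUp : X.basicOpen p ≤ U := hU ▸ le_sup_left
  have hUq : X.basicOpen q ≤ U := hU ▸ le_sup_right
  obtain ⟨a, ⟨_, n, rfl⟩, ha⟩ :=
    IsLocalization.exists_mk'_eq (Submonoid.powers p) (X.presheaf.map (homOfLE hUp).op σ)
  obtain ⟨b, ⟨_, m, rfl⟩, hb⟩ :=
    IsLocalization.exists_mk'_eq (Submonoid.powers q) (X.presheaf.map (homOfLE hUq).op σ)
  rw [eq_comm, IsLocalization.eq_mk'_iff_mul_eq] at ha hb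
  dsimp only at ha hb
  -- on the common basic open
  have hpq : X.basicOpen (p * q) ≤ X.basicOpen p := (X.basicOpen_mul p q).le.trans inf_le_left
  have hpq' : X.basicOpen (p * q) ≤ X.basicOpen q := (X.basicOpen_mul p q).le.trans inf_le_right
  let r : Γ(X, ⊤) →+* Γ(X, X.basicOpen (p * q)) := (X.presheaf.map (homOfLE (le_top (a := X.basicOpen (p * q)))).op).hom
  let σ' := X.presheaf.map (homOfLE (hpq.trans hUp)).op σ
  have ha' : σ' * r (p ^ n) = r a := by
    have := congrArg (fun z => (X.presheaf.map (homOfLE hpq).op).hom z) ha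
    simp only [map_mul, RingHom.algebraMap_toAlgebra] at this
    rw [res_res] at this
    refine Eq.trans (congrArg (σ' * ·) ?_) (this.trans ?_)
    · exact (res_res (homOfLE hpq) (homOfLE le_top) (p ^ n)).symm
    · exact res_res (homOfLE hpq) (homOfLE le_top) a
  have hb' : σ' * r (q ^ m) = r b := by
    have := congrArg (fun z => (X.presheaf.map (homOfLE hpq').op).hom z) hb
    simp only [map_mul, RingHom.algebraMap_toAlgebra] at this
    rw [res_res] at this
    refine Eq.trans (congrArg (σ' * ·) ?_) (this.trans ?_)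
    · exact (res_res (homOfLE hpq') (homOfLE le_top) (q ^ m)).symm
    · exact res_res (homOfLE hpq') (homOfLE le_top) b
  have hab : r (a * q ^ m) = r (b * p ^ n) := by
    rw [map_mul, map_mul, ← ha', ← hb']
    ring
  have hab' : algebraMap Γ(X, ⊤) Γ(X, X.basicOpen (p * q)) (a * q ^ m) =
      algebraMap Γ(X, ⊤) Γ(X, X.basicOpen (p * q)) (b * p ^ n) := hab
  rw [IsLocalization.eq_iff_exists (Submonoid.powers (p * q))] at hab'
  obtain ⟨⟨_, k, rfl⟩, hk⟩ := hab'
  dsimp only at hk
  have hcancel : ∀ (k : ℕ) (x : Γ(X, ⊤)), p ^ k * x = 0 → x = 0 := by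
    intro k
    induction k with
    | zero => intro x hx; rwa [pow_zero, one_mul] at hx
    | succ k ih => intro x hx; exact ih x (hp _ (by rwa [pow_succ', mul_assoc] at hx))
  have hk' : q ^ (k + m) * a = p ^ n * (q ^ k * b) := by
    rw [← sub_eq_zero]
    refine hcancel k _ ?_
    rw [mul_pow] at hk
    linear_combination hk
  have hdiv : ∀ (j : ℕ) (n : ℕ) (x : Γ(X, ⊤)), p ^ n ∣ q ^ j * x → p ^ n ∣ x := by
    intro j
    induction j with
    | zero => intro n x hx; rwa [pow_zero, one_mul] at hx
    | succ j ih =>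
      intro n
      induction n with
      | zero => intro x _; rw [pow_zero]; exact one_dvd _
      | succ n ihn =>
        intro x hx
        rw [pow_succ' p n, pow_succ' q j, mul_assoc] at hx
        obtain ⟨y, rfl⟩ : p ∣ x := by
          have h1 : p ∣ q ^ j * x := hq _ ((dvd_mul_right p (p ^ n)).trans hx)
          have := ih 1 x (by rwa [pow_one])
          rwa [pow_one] at this
        rw [pow_succ']
        refine mul_dvd_mul_left p (ihn y ?_)
        obtain ⟨c, hc⟩ := hx
        refine ⟨c, ?_⟩
        rw [← sub_eq_zero]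
        refine hp _ ?_
        linear_combination hc
  obtain ⟨c, rfl⟩ := hdiv (k + m) n a ⟨_, hk'⟩
  refine ⟨c, TopCat.Sheaf.eq_of_locally_eq₂ X.sheaf (homOfLE hUp) (homOfLE hUq) hU.le _ _ ?_ ?_⟩
  · have hu : IsUnit (algebraMap Γ(X, ⊤) Γ(X, X.basicOpen p) (p ^ n)) :=
      IsLocalization.map_units _ (⟨_, n, rfl⟩ : Submonoid.powers p)
    rw [map_mul, mul_comm] at ha
    have h1 := hu.mul_left_cancel ha
    exact (res_res (homOfLE hUp) (homOfLE le_top) c).trans h1.symm
  · have hu : IsUnit (algebraMap Γ(X, ⊤) Γ(X, X.basicOpen q) (q ^ (m + k))) :=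
      IsLocalization.map_units _ (⟨_, m + k, rfl⟩ : Submonoid.powers q)
    have h0 : q ^ (k + m) * c = q ^ k * b := by
      rw [← sub_eq_zero]
      refine hcancel n _ ?_
      linear_combination hk'
    have h1 : algebraMap Γ(X, ⊤) Γ(X, X.basicOpen q) c * algebraMap _ _ (q ^ (m + k)) =
        X.presheaf.map (homOfLE hUq).op σ * algebraMap _ _ (q ^ (m + k)) := by
      rw [← map_mul, mul_comm c, add_comm m k, h0, map_mul, ← hb, pow_add, map_mul]
      ring
    exact (res_res (homOfLE hUq) (homOfLE le_top) c).trans (hu.mul_right_cancel h1)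

/-- The restriction to the complement of the zero locus of a regular pair is bijective. -/
theorem bijective_ι_appTop (hp : ∀ a, p * a = 0 → a = 0) (hq : ∀ a, p ∣ q * a → p ∣ a) :
    Function.Bijective (X.basicOpen p ⊔ X.basicOpen q).ι.appTop := by
  have h := (X.basicOpen p ⊔ X.basicOpen q).ι_image_top
  rw [Scheme.Opens.ι_appTop]
  exact ⟨res_injective_of_regular p hp _ (le_sup_left.trans h.ge),
    res_surjective_of_regularPair p q hp hq _ h⟩

theorem injective_ι_appTop (hp : ∀ a, p * a = 0 → a = 0) :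
    Function.Injective (X.basicOpen p ⊔ X.basicOpen q).ι.appTop := by
  have h := (X.basicOpen p ⊔ X.basicOpen q).ι_image_top
  rw [Scheme.Opens.ι_appTop]
  exact res_injective_of_regular p hp _ (le_sup_left.trans h.ge)

end Groth.Agent.Theta44
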