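import Groth.Agent.Theta44.QuotLifts
import Groth.Agent.Theta44.OpenPair
import Mathlib.RingTheory.Flat.Basic

/-!
A pair of semi-invariant functions on an affine scheme with a torus action.
-/

set_option autoImplicit false
set_option maxHeartbeats 1000000
set_option linter.style.haveILetI false
set_option backward.isDefEq.respectTransparency false
set_option backward.isDefEq.respectTransparency.types false
universe u

open CategoryTheory CategoryTheory.Limits MonoidalCategory CartesianMonoidalCategory AlgebraicGeometry AlgSt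
open Opposite
open scoped TensorProduct LaurentPolynomial Polynomial

namespace Groth.Agent.Theta44

variable {R : Type u} [CommRing R] {B : Type u} [CommRing B] [Algebra R B]

/-- A function on the spectrum of an algebra. -/
noncomputable abbrev fnOf (B : Type u) [CommRing B] [Algebra R B] (b : B) : Γ((CoactBr.sp R B).left, ⊤) :=
  (Scheme.ΓSpecIso (CommRingCat.of B)).inv b

theorem pt_appTop {K : Type u} [CommRing K] [Algebra R K] (φ : B →ₐ[R] K) (b : B) :
    (CoactBr.pt φ).left.appTop (fnOf (R := R) B b) = fnOf (R := R) K (φ b) := by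
  have h := congrArg (fun t => t b) (Scheme.ΓSpecIso_inv_naturality (CommRingCat.ofHom φ.toRingHom))
  exact h.symm

/-- The universal point of the product with the group. -/
noncomputable abbrev univPt (R : Type u) [CommRing R] (B : Type u) [CommRing B] [Algebra R B] :
    CoactBr.sp R (B ⊗[R] ThetaS.Lau R) ⟶ ThetaS.Gm R ⊗ CoactBr.sp R B :=
  lift (CoactBr.pt Algebra.TensorProduct.includeRight) (CoactBr.pt Algebra.TensorProduct.includeLeft)

instance isIso_univPt : IsIso (univPt R B) := by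
  let l := lift (CoactBr.pt (R := R) (Algebra.TensorProduct.includeLeft : B →ₐ[R] B ⊗[R] ThetaS.Lau R))
    (CoactBr.pt (Algebra.TensorProduct.includeRight : ThetaS.Lau R →ₐ[R] B ⊗[R] ThetaS.Lau R))
  letI : (algSpec (CommRingCat.of R)).Braided := braidedAlgSpec
  have h : l ≫ Functor.LaxMonoidal.μ (algSpec (CommRingCat.of R)) (op (CommAlgCat.of R B))
      (op (CommAlgCat.of R (ThetaS.Lau R))) = 𝟙 _ := by
    rw [CoactBr.lift_pt_pt]
    rw [← CoactBr.pt_id]
    congr 1
    ext <;> simp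
  haveI : IsIso l := ⟨⟨Functor.LaxMonoidal.μ (algSpec (CommRingCat.of R)) (op (CommAlgCat.of R B))
      (op (CommAlgCat.of R (ThetaS.Lau R))), h, by
    rw [← cancel_epi (Functor.OplaxMonoidal.δ (algSpec (CommRingCat.of R)) (op (CommAlgCat.of R B))
      (op (CommAlgCat.of R (ThetaS.Lau R))))]
    have hl : l = Functor.OplaxMonoidal.δ (algSpec (CommRingCat.of R)) (op (CommAlgCat.of R B))
        (op (CommAlgCat.of R (ThetaS.Lau R))) := by
      rw [← cancel_mono (Functor.LaxMonoidal.μ (algSpec (CommRingCat.of R)) (op (CommAlgCat.of R B))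
        (op (CommAlgCat.of R (ThetaS.Lau R)))), h, Functor.Monoidal.δ_μ]
      rfl
    rw [hl, Functor.Monoidal.δ_μ_assoc]
    exact (Category.comp_id _).symm⟩⟩
  have e : univPt R B = l ≫ (β_ _ _).hom := by
    simp [univPt, l]
  rw [e]
  infer_instance


theorem liftsUniquely_gmPair [Flat (ThetaS.Gm R).hom] [LocallyOfFinitePresentation (ThetaS.Gm R).hom]
    {S : Scheme.{u}} (h : Spec (CommRingCat.of R) ⟶ S) (a : AlgGrp.Action (ThetaS.Gm R) (CoactBr.sp R B))
    (p q : B) (hp : ∀ c, p * c = 0 → c = 0) (hq : ∀ c, p ∣ q * c → p ∣ c)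
    (ψ : B →ₐ[R] B ⊗[R] ThetaS.Lau R) (hψ : univPt R B ≫ a.act = CoactBr.pt ψ)
    (hψp : ∃ v, IsUnit v ∧ ψ p = v * (p ⊗ₜ[R] 1)) (hψq : ∃ v, IsUnit v ∧ ψ q = v * (q ⊗ₜ[R] 1))
    (P : (ThetaS.overS h (QuotSt Scheme.fppfPrecoverage (ThetaS.Gm R) a)).obj → Prop)
    (hP : ∀ A, P A ↔ A.P.left.basicOpen (A.φ.left.appTop (fnOf (R := R) B p)) ⊔
      A.P.left.basicOpen (A.φ.left.appTop (fnOf (R := R) B q)) = ⊤)
    {𝒳 𝒴 : AlgSt.Cat S} (hX : FibCat.IsFibGrpd 𝒳.p) (hY : FibCat.IsFibGrpd 𝒴.p)
    {f : 𝒳 ⥤ᵇ 𝒴} (hf : RepByAlgSpWith (AlgSp.RepWith @IsAffineHom) f) :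
    LiftSq.LiftsUniquely (AlgSt.subIncl (ThetaS.overS h (QuotSt Scheme.fppfPrecoverage (ThetaS.Gm R) a)) P) f := by
  let X := CoactBr.sp R B
  let P' : Γ(X.left, ⊤) := fnOf (R := R) B p
  let Q' : Γ(X.left, ⊤) := fnOf (R := R) B q
  let V : X.left.Opens := X.left.basicOpen P' ⊔ X.left.basicOpen Q'
  haveI : IsAffine (ThetaS.Gm R).left := inferInstanceAs (IsAffine (Spec (CommRingCat.of (ThetaS.Lau R))))
  haveI : IsAffine X.left := inferInstanceAs (IsAffine (Spec (CommRingCat.of B)))
  haveI : IsAffine (ThetaS.Gm R ⊗ X).left := by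
    haveI : IsAffine (CoactBr.sp R (B ⊗[R] ThetaS.Lau R)).left :=
      inferInstanceAs (IsAffine (Spec (CommRingCat.of (B ⊗[R] ThetaS.Lau R))))
    haveI : IsIso (univPt R B).left := inferInstanceAs (IsIso ((Over.forget _).map (univPt R B)))
    exact .of_isIso (inv (univPt R B).left)
  -- the equivalence with the spectrum
  let e : B ≃+* Γ(X.left, ⊤) := (Scheme.ΓSpecIso (CommRingCat.of B)).commRingCatIsoToRingEquiv.symm
  have hp' : ∀ c, P' * c = 0 → c = 0 := by
    intro c hc
    obtain ⟨c, rfl⟩ := e.surjective c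
    have : e (p * c) = 0 := by rw [map_mul]; exact hc
    rw [hp c (e.injective (this.trans (map_zero e).symm)), map_zero]
  have hq' : ∀ c, P' ∣ Q' * c → P' ∣ c := by
    rintro c ⟨d, hd⟩
    obtain ⟨c, rfl⟩ := e.surjective c
    obtain ⟨d, rfl⟩ := e.surjective d
    have h1 : e (q * c) = e (p * d) := by rw [map_mul, map_mul]; exact hd
    obtain ⟨r, rfl⟩ := hq c ⟨d, e.injective h1⟩
    exact ⟨e r, by rw [map_mul]; rfl⟩
  have hV : Function.Bijective V.ι.appTop := bijective_ι_appTop P' Q' hp' hq'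
  -- the pulled back functions
  have hu1 : univPt R B ≫ snd (ThetaS.Gm R) X = CoactBr.pt Algebra.TensorProduct.includeLeft := lift_snd _ _
  have happ : ∀ b : B, (univPt R B).left.appTop (a.act.left.appTop (fnOf (R := R) B b)) = fnOf (R := R) _ (ψ b) := by
    intro b
    rw [← pt_appTop ψ b, ← hψ]
    rfl
  have hsnd : ∀ b : B, (univPt R B).left.appTop ((snd (ThetaS.Gm R) X).left.appTop (fnOf (R := R) B b)) =
      fnOf (R := R) _ (b ⊗ₜ[R] (1 : ThetaS.Lau R)) := by
    intro b
    rw [← Algebra.TensorProduct.includeLeft_apply (R := R) (S := R), ← pt_appTop, ← hu1]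
    rfl
  haveI : IsIso (univPt R B).left := inferInstanceAs (IsIso ((Over.forget _).map (univPt R B)))
  have hbo : ∀ b : B, (∃ v, IsUnit v ∧ ψ b = v * (b ⊗ₜ[R] 1)) →
      a.act.left ⁻¹ᵁ X.left.basicOpen (fnOf (R := R) B b) =
        (snd (ThetaS.Gm R) X).left ⁻¹ᵁ X.left.basicOpen (fnOf (R := R) B b) := by
    rintro b ⟨v, hv, hvb⟩
    rw [Scheme.preimage_basicOpen_top, Scheme.preimage_basicOpen_top]
    have hi : Function.Injective fun U : (ThetaS.Gm R ⊗ X).left.Opens => (univPt R B).left ⁻¹ᵁ U := by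
      intro U U' hUU
      ext x
      obtain ⟨y, rfl⟩ := (univPt R B).left.surjective x
      exact Iff.of_eq (congrArg (fun W => y ∈ W) hUU)
    apply hi
    show (univPt R B).left ⁻¹ᵁ _ = (univPt R B).left ⁻¹ᵁ _
    rw [Scheme.preimage_basicOpen_top, Scheme.preimage_basicOpen_top, happ, hsnd, hvb]
    simp only [fnOf, map_mul]
    have hu : IsUnit (fnOf (R := R) _ v) :=
      hv.map (Scheme.ΓSpecIso (CommRingCat.of (B ⊗[R] ThetaS.Lau R))).inv.hom
    rw [Scheme.basicOpen_mul]
    erw [Scheme.basicOpen_of_isUnit (CoactBr.sp R (B ⊗[R] ThetaS.Lau R)).left hu]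
    rw [top_inf_eq]
  have hinv : a.act.left ⁻¹ᵁ V = (snd (ThetaS.Gm R) X).left ⁻¹ᵁ V := by
    show a.act.left ⁻¹ᵁ (_ ⊔ _) = _ ⁻¹ᵁ (_ ⊔ _)
    rw [Scheme.Hom.preimage_sup, Scheme.Hom.preimage_sup, hbo p hψp, hbo q hψq]
  have hW : Function.Injective (a.act.left ⁻¹ᵁ V).ι.appTop := by
    have e1 : a.act.left ⁻¹ᵁ V = (ThetaS.Gm R ⊗ X).left.basicOpen (a.act.left.appTop P') ⊔
        (ThetaS.Gm R ⊗ X).left.basicOpen (a.act.left.appTop Q') := by
      show a.act.left ⁻¹ᵁ (_ ⊔ _) = _
      rw [Scheme.Hom.preimage_sup, Scheme.preimage_basicOpen_top, Scheme.preimage_basicOpen_top]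
    rw [e1]
    refine injective_ι_appTop _ _ fun c hc => ?_
    apply (ConcreteCategory.bijective_of_isIso (univPt R B).left.appTop).1
    rw [map_zero]
    have h1 := congrArg (fun t => (univPt R B).left.appTop t) hc
    simp only [map_mul, map_zero, P'] at h1
    rw [happ] at h1
    obtain ⟨v, hv, hvp⟩ := hψp
    obtain ⟨c', hc'⟩ := (ConcreteCategory.bijective_of_isIso
      (Scheme.ΓSpecIso (CommRingCat.of (B ⊗[R] ThetaS.Lau R))).inv).2 ((univPt R B).left.appTop c)
    rw [← hc', hvp] at h1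
    let ι := ConcreteCategory.hom (Scheme.ΓSpecIso (CommRingCat.of (B ⊗[R] ThetaS.Lau R))).inv
    have h2 := (ConcreteCategory.bijective_of_isIso
      (Scheme.ΓSpecIso (CommRingCat.of (B ⊗[R] ThetaS.Lau R))).inv).1
      ((map_mul ι _ _).trans (h1.trans (map_zero ι).symm))
    rw [mul_assoc, hv.mul_right_eq_zero] at h2
    have h3 : Function.Injective (LinearMap.rTensor (ThetaS.Lau R) (LinearMap.mulLeft R p)) :=
      Module.Flat.rTensor_preserves_injective_linearMap _ (fun x y hxy => by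
        have : p * (x - y) = 0 := by rw [mul_sub, sub_eq_zero]; exact hxy
        exact sub_eq_zero.1 (hp _ this))
    have h4 : ∀ c : B ⊗[R] ThetaS.Lau R,
        LinearMap.rTensor (ThetaS.Lau R) (LinearMap.mulLeft R p) c = (p ⊗ₜ[R] (1 : ThetaS.Lau R)) * c := by
      intro c
      induction c using TensorProduct.induction_on with
      | zero => simp
      | tmul x y => simp [Algebra.TensorProduct.tmul_mul_tmul]
      | add x y hx hy => simp [hx, hy, mul_add]
    have : c' = 0 := h3 (by rw [h4, map_zero, h2])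
    rw [← hc', this, map_zero]
  have eP : P = Lands h a V := funext fun A => propext ((hP A).trans (by
    unfold Lands
    show _ ↔ A.φ.left ⁻¹ᵁ (_ ⊔ _) = ⊤
    rw [Scheme.Hom.preimage_sup, Scheme.preimage_basicOpen_top, Scheme.preimage_basicOpen_top]))
  subst eP
  exact liftsUniquely_of_affine h a V hX hY hf hinv hV hW

theorem flat_gm (R : Type u) [CommRing R] : Flat (ThetaS.Gm R).hom := by
  have : (algebraMap R (ThetaS.Lau R)).Flat := RingHom.flat_algebraMap_iff.2 inferInstance
  exact (HasRingHomProperty.Spec_iff (P := @Flat)).2 this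

theorem lfp_gm (R : Type u) [CommRing R] : LocallyOfFinitePresentation (ThetaS.Gm R).hom := by
  have h0 : Algebra.FinitePresentation R R[T;T⁻¹] := by
    haveI : Algebra.FinitePresentation R[X] R[T;T⁻¹] :=
      IsLocalization.Away.finitePresentation (Polynomial.X : R[X])
    haveI : IsScalarTower R R[X] R[T;T⁻¹] := IsScalarTower.of_algebraMap_eq fun r => by
      simp [LaurentPolynomial.algebraMap_apply, LaurentPolynomial.algebraMap_X_pow]
    exact Algebra.FinitePresentation.trans R R[X] R[T;T⁻¹]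
  have h1 : Algebra.FinitePresentation R (ThetaS.Lau R) :=
    h0.equiv (AddMonoidAlgebra.toMultiplicativeAlgEquiv R R ℤ)
  exact (HasRingHomProperty.Spec_iff (P := @LocallyOfFinitePresentation)).2
    (RingHom.finitePresentation_algebraMap.2 h1)

end Groth.Agent.Theta44
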