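import Groth.Agent.Theta44.QuotLifts
import Groth.Agent.Theta44.GmPair
import Groth.Agent.AlgSt88.SepRep
import Groth.Agent.SpPts86.Basic
import Groth.Prelude.Def_ThetaS

/-!
Two dotted arrows of a square under the point `1` of Θ agree, for a separated morphism representable by
algebraic spaces: the locus where they agree is closed and contains a schematically dense part of the line.
-/

set_option autoImplicit false
set_option maxHeartbeats 1000000
set_option linter.style.haveILetI false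
set_option linter.unusedSectionVars false
set_option backward.isDefEq.respectTransparency false
set_option backward.isDefEq.respectTransparency.types false
universe u

open CategoryTheory CategoryTheory.Limits MonoidalCategory CartesianMonoidalCategory AlgebraicGeometry AlgSt FibCat
open Opposite
open Groth.Agent.AlgSt88
open scoped Polynomial

namespace Groth.Agent.Theta44

section Eq

variable {S : Scheme.{u}} {𝒜 𝒯 𝒳 𝒴 : AlgSt.Cat S} {j : 𝒜 ⥤ᵇ 𝒯} {f : 𝒳 ⥤ᵇ 𝒴} {sq : LiftSq.Sq j f}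
  (d d' : sq.Lift)

/-- The comparison of the images of two dotted arrows. -/
def cmpY (A : 𝒯.obj) : f.obj (d.fn.obj A) ⟶ f.obj (d'.fn.obj A) :=
  d.isoBot.inv.toNatTrans.app A ≫ d'.isoBot.hom.toNatTrans.app A

/-- The two dotted arrows as one functor to the fibre square of `f`. -/
abbrev pairFun : 𝒯 ⥤ᵇ fp f f := fpLift d.fn d'.fn (d.isoBot.symm ≪≫ d'.isoBot)

/-- The comparison lifts to the source. -/
def Agrees (A : 𝒯.obj) : Prop :=
  ∃ χ : d.fn.obj A ⟶ d'.fn.obj A, 𝒳.p.IsHomLift (𝟙 (𝒯.p.obj A)) χ ∧ f.map χ = cmpY d d' A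

theorem pair_of_agrees {A : 𝒯.obj} (hA : Agrees d d' A) : Nonempty (Pair (diag f) (pairFun d d') A) := by
  obtain ⟨χ, hχ, eχ⟩ := hA
  refine ⟨⟨d.fn.obj A, d.fn.w_obj A, Fib44.fpHom (𝟙 _) χ ?_, ?_⟩⟩
  · change f.map (𝟙 _) ≫ cmpY d d' A = 𝟙 _ ≫ f.map χ
    rw [f.map_id, Category.id_comp, Category.id_comp, eχ]
  · rw [Fib44.fp_isHomLift_iff]
    exact IsHomLift.id (d.fn.w_obj A)

variable (hX : IsFibGrpd 𝒳.p) (hY : IsFibGrpd 𝒴.p)
include hX hY

theorem agrees_of_pair {A : 𝒯.obj} (π : Pair (diag f) (pairFun d d') A) : Agrees d d' A := by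
  have hl := π.lift
  haveI h1 : 𝒳.p.IsHomLift (𝟙 (𝒯.p.obj A)) π.ι.hom.fst := (Fib44.fp_isHomLift_iff _ _).1 hl
  haveI h2 : 𝒳.p.IsHomLift (𝟙 (𝒯.p.obj A)) π.ι.hom.snd := Fib44.fp_isHomLift_snd _ _
  haveI := Fib44.isIso_of_fibGrpd 𝒳.p hX (𝟙 (𝒯.p.obj A)) π.ι.hom.fst
  refine ⟨inv π.ι.hom.fst ≫ π.ι.hom.snd, inferInstance, ?_⟩
  have e : f.map π.ι.hom.fst ≫ cmpY d d' A = 𝟙 _ ≫ f.map π.ι.hom.snd := Fib44.fp_w π.ι
  rw [Category.id_comp] at e
  rw [f.map_comp, ← e, ← Category.assoc, ← f.map_comp, IsIso.inv_hom_id, f.map_id, Category.id_comp]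

theorem agrees_down {A A' : 𝒯.obj} (m : A' ⟶ A) (hA : Agrees d d' A) : Agrees d d' A' := by
  obtain ⟨π⟩ := pair_of_agrees d d' hA
  exact agrees_of_pair d d' hX hY (exists_res hX (Fib44.isFibGrpd_fp hX hX hY) m π).choose

theorem agrees_left (a : 𝒜.obj) : Agrees d d' (j.obj a) := by
  have hl : ∀ e : sq.Lift, 𝒳.p.IsHomLift (𝟙 (𝒯.p.obj (j.obj a))) (e.isoTop.hom.toNatTrans.app a) ∧
      𝒳.p.IsHomLift (𝟙 (𝒯.p.obj (j.obj a))) (e.isoTop.inv.toNatTrans.app a) := fun e =>
    ⟨Fib44.lift_id_of_eq 𝒳.p (j.w_obj a).symm (e.isoTop.hom.isHomLift' a),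
      Fib44.lift_id_of_eq 𝒳.p (j.w_obj a).symm (e.isoTop.inv.isHomLift' a)⟩
  have := (hl d).1
  have := (hl d').2
  refine ⟨d.isoTop.hom.toNatTrans.app a ≫ d'.isoTop.inv.toNatTrans.app a, inferInstance, ?_⟩
  have w : ∀ e : sq.Lift, e.isoBot.hom.toNatTrans.app (j.obj a) ≫ f.map (e.isoTop.hom.toNatTrans.app a) =
      sq.iso.hom.toNatTrans.app a := fun e => congrArg (fun t => t.toNatTrans.app a) e.w
  have hi : ∀ e : sq.Lift, f.map (e.isoTop.hom.toNatTrans.app a) ≫ f.map (e.isoTop.inv.toNatTrans.app a) = 𝟙 _ :=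
    fun e => by
      rw [← f.map_comp, show e.isoTop.hom.toNatTrans.app a ≫ e.isoTop.inv.toNatTrans.app a = 𝟙 _ from
        congrArg (fun t => t.toNatTrans.app a) e.isoTop.hom_inv_id, f.map_id]
  have e1 : d'.isoBot.hom.toNatTrans.app (j.obj a) =
      sq.iso.hom.toNatTrans.app a ≫ f.map (d'.isoTop.inv.toNatTrans.app a) := by
    rw [← w d', Category.assoc, hi d']
    exact (Category.comp_id _).symm
  unfold cmpY
  rw [f.map_comp, e1, ← w d, ← Category.assoc, ← Category.assoc, (app_comp_app hX hY d.isoBot (j.obj a)).2]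
  exact (congrArg (· ≫ f.map (d'.isoTop.inv.toNatTrans.app a)) (Category.id_comp _)).symm

variable [f.toFunctor.Faithful]

theorem subsingleton_cls (A : 𝒯.obj) : Subsingleton (Cls (diag f) (pairFun d d') A) := by
  refine ⟨fun x y => ?_⟩
  obtain ⟨π, rfl⟩ := cls_surjective x
  obtain ⟨π', rfl⟩ := cls_surjective y
  have := π.lift
  have := π'.lift
  haveI : 𝒳.p.IsHomLift (𝟙 (𝒯.p.obj A)) π.ι.hom.fst := (Fib44.fp_isHomLift_iff _ _).1 π.lift
  haveI : 𝒳.p.IsHomLift (𝟙 (𝒯.p.obj A)) π'.ι.hom.fst := (Fib44.fp_isHomLift_iff _ _).1 π'.lift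
  haveI := Fib44.isIso_of_fibGrpd 𝒳.p hX (𝟙 (𝒯.p.obj A)) π'.ι.hom.fst
  refine (cls_eq_iff hX _ _).2 ⟨π.ι.hom.fst ≫ inv π'.ι.hom.fst, ?_, ?_⟩
  · rw [𝒯.p.map_id]; infer_instance
  · rw [(pairFun d d').map_id, Category.comp_id]
    have e : f.map π.ι.hom.fst ≫ cmpY d d' A = 𝟙 _ ≫ f.map π.ι.hom.snd := Fib44.fp_w π.ι
    have e' : f.map π'.ι.hom.fst ≫ cmpY d d' A = 𝟙 _ ≫ f.map π'.ι.hom.snd := Fib44.fp_w π'.ι
    rw [Category.id_comp] at e e'
    refine Fib44.fp_hom_ext ?_ ?_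
    · change (π.ι.hom.fst ≫ inv π'.ι.hom.fst) ≫ π'.ι.hom.fst = π.ι.hom.fst
      simp
    · change (π.ι.hom.fst ≫ inv π'.ι.hom.fst) ≫ π'.ι.hom.snd = π.ι.hom.snd
      apply f.toFunctor.map_injective
      rw [f.map_comp, f.map_comp, ← e, ← e', Category.assoc, ← Category.assoc (f.map (inv _)), ← f.map_comp,
        IsIso.inv_hom_id, f.map_id, Category.id_comp]

/-- Two dotted arrows agreeing at every object are related by exactly one morphism. -/
theorem unique_of_agrees (hall : ∀ A, Agrees d d' A) : Nonempty (Unique (d ⟶ d')) := by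
  choose χ hχ eχ using hall
  have eh : ∀ A, d.isoBot.hom.toNatTrans.app A ≫ f.map (χ A) = d'.isoBot.hom.toNatTrans.app A := fun A => by
    rw [eχ A, cmpY, ← Category.assoc, (app_comp_app hX hY d.isoBot A).1]
    exact Category.id_comp _
  let θ : d.fn ⟶ d'.fn :=
    { toNatTrans :=
        { app := χ
          naturality := fun A A' m => f.toFunctor.map_injective (by
            change f.map (d.fn.map m ≫ χ A') = f.map (χ A ≫ d'.fn.map m)
            rw [f.map_comp, f.map_comp, eχ, eχ, cmpY, cmpY, Category.assoc]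
            have n1 : f.map (d.fn.map m) ≫ d.isoBot.inv.toNatTrans.app A' =
                d.isoBot.inv.toNatTrans.app A ≫ sq.bot.map m := d.isoBot.inv.toNatTrans.naturality m
            have n2 : sq.bot.map m ≫ d'.isoBot.hom.toNatTrans.app A' =
                d'.isoBot.hom.toNatTrans.app A ≫ f.map (d'.fn.map m) := d'.isoBot.hom.toNatTrans.naturality m
            rw [reassoc_of% n1, n2]) }
      isHomLift' := hχ }
  have wb : d.isoBot.hom ≫ BasedCategory.whiskerRight θ f = d'.isoBot.hom := by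
    apply BasedNatTrans.homCategory.ext; ext A; exact eh A
  have wt : BasedCategory.whiskerLeft j θ ≫ d'.isoTop.hom = d.isoTop.hom := by
    apply BasedNatTrans.homCategory.ext; ext a
    change χ (j.obj a) ≫ d'.isoTop.hom.toNatTrans.app a = d.isoTop.hom.toNatTrans.app a
    apply f.toFunctor.map_injective
    have e1 : d.isoBot.hom.toNatTrans.app (j.obj a) ≫ f.map (d.isoTop.hom.toNatTrans.app a) =
        sq.iso.hom.toNatTrans.app a := congrArg (fun t => t.toNatTrans.app a) d.w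
    have e2 : d'.isoBot.hom.toNatTrans.app (j.obj a) ≫ f.map (d'.isoTop.hom.toNatTrans.app a) =
        sq.iso.hom.toNatTrans.app a := congrArg (fun t => t.toNatTrans.app a) d'.w
    change f.map (χ (j.obj a) ≫ d'.isoTop.hom.toNatTrans.app a) = f.map (d.isoTop.hom.toNatTrans.app a)
    haveI : IsIso (d.isoBot.hom.toNatTrans.app (j.obj a)) :=
      ⟨⟨d.isoBot.inv.toNatTrans.app (j.obj a), app_comp_app hX hY d.isoBot (j.obj a)⟩⟩
    apply (cancel_epi (d.isoBot.hom.toNatTrans.app (j.obj a))).1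
    rw [f.map_comp, reassoc_of% (eh (j.obj a)), e2, e1]
  refine ⟨⟨⟨⟨θ, wt, wb⟩⟩, fun φ => ?_⟩⟩
  refine LiftSq.Sq.Lift.hom_ext (BasedNatTrans.homCategory.ext _ _ (NatTrans.ext (funext fun A => ?_)))
  apply f.toFunctor.map_injective
  haveI : IsIso (d.isoBot.hom.toNatTrans.app A) :=
    ⟨⟨d.isoBot.inv.toNatTrans.app A, app_comp_app hX hY d.isoBot A⟩⟩
  apply (cancel_epi (d.isoBot.hom.toNatTrans.app A)).1
  exact (congrArg (fun t => t.toNatTrans.app A) φ.w_bot).trans (eh A).symm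

end Eq

theorem lineInj (R : Type u) [CommRing R] :
    Function.Injective (ThetaS.linePt (R := R) (A := ThetaS.Lau R) (ThetaS.zPow R 1)) := by
  intro p q h
  ext n
  have key : ∀ p : R[X], (ThetaS.linePt (R := R) (A := ThetaS.Lau R) (ThetaS.zPow R 1) p) =
      p.sum fun i a => MonoidAlgebra.single (Multiplicative.ofAdd (i : ℤ)) a := by
    intro p
    rw [ThetaS.linePt, Polynomial.aeval_eq_sum_range, Polynomial.sum_over_range]
    · refine Finset.sum_congr rfl fun i _ => ?_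
      simp [ThetaS.zPow, MonoidAlgebra.single_pow, ← ofAdd_nsmul]
    · simp
  have h' := congrArg (fun t => (t : MonoidAlgebra R (Multiplicative ℤ)).coeff (Multiplicative.ofAdd (n : ℤ)))
    ((key p).symm.trans (h.trans (key q)))
  simp [Polynomial.sum, Finsupp.single_apply] at h'
  have h1 : ∀ p : R[X], (if n ∈ p.support then p.coeff n else 0) = p.coeff n := fun p => by
    split_ifs with hn
    · rfl
    · exact (Polynomial.notMem_support_iff.1 hn).symm
  rwa [h1, h1] at h'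

theorem liftsUnique_thetaOne {S : Scheme.{u}} {R : Type u} [CommRing R] (h : Spec (CommRingCat.of R) ⟶ S)
    {𝒳 𝒴 : AlgSt.Cat S} (hX : IsFibGrpd 𝒳.p) (hY : IsFibGrpd 𝒴.p) {f : 𝒳 ⥤ᵇ 𝒴}
    (hrep : AlgSt.RepByAlgSp1 f) (hsep : AlgSt.IsSeparatedMor f) :
    LiftSq.LiftsUnique (ThetaS.thetaOne Scheme.fppfPrecoverage R h) f := by
  intro sq d d'
  haveI := faithful_of_repByAlgSp1 hX hY hrep
  haveI : (diag f).toFunctor.Faithful := ⟨fun {x y} {m m'} e => congrArg (fun t => t.hom.fst) e⟩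
  haveI := flat_gm R
  haveI := lfp_gm R
  have hci : IsClosedImm (diag f) :=
    closedImm_diag_of_sep hX hY (sep_of_univClosed_diag hrep (univClosed_diag_of_isSeparatedMor hsep))
  have hfp := Fib44.isFibGrpd_fp (F := f) (G := f) hX hX hY
  have hT := isFibGrpd_overS h
    (isFibGrpd_quotSt (K := Scheme.fppfPrecoverage) (ThetaS.lineAction R))
  let G := ThetaS.Gm R
  let a := ThetaS.lineAction R
  let A₀ : QuotObj Scheme.fppfPrecoverage G a :=
    (quotMap Scheme.fppfPrecoverage G a).obj ⟨ThetaS.Line R, ⟨𝟙 _⟩⟩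
  -- the chart meets the point 1 in the multiplicative group
  let c : G ⟶ ThetaS.Line R := Over.homMk (G.hom ≫ ThetaS.onePt R) (by
    rw [Category.assoc, ThetaS.onePt_hom, Category.comp_id])
  let o : G ⟶ ThetaS.Line R := lift (𝟙 G) (𝟙 G ≫ c) ≫ a.act
  let B : QuotObj Scheme.fppfPrecoverage G a :=
    (quotMap Scheme.fppfPrecoverage G a).obj ((ofOverCat (ThetaS.Line R)).obj (Over.mk o))
  obtain ⟨k, -, -⟩ : ∃ k : B ⟶ (quotMap Scheme.fppfPrecoverage G a).obj ((ofOverCat (ThetaS.Line R)).obj (Over.mk c)),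
      k.base = 𝟙 G ∧ _ := (exists_quot_hom_over a (𝟙 G) o c).2 (𝟙 G) rfl
  let wB : ((ofOverCat (ThetaS.Line R)).obj (Over.mk o)) ⟶
      (⟨ThetaS.Line R, ⟨𝟙 _⟩⟩ : (ofSch (ThetaS.Line R)).obj) :=
    ⟨o, congrArg ULift.up (Category.comp_id o)⟩
  let mB : B ⟶ A₀ := (quotMap Scheme.fppfPrecoverage G a).map wB
  have hB : Agrees d d' B :=
    agrees_down (𝒯 := ThetaS.Theta Scheme.fppfPrecoverage R h) d d' hX hY k (agrees_left d d' hX hY G)
  have ho : o = CoactBr.pt (ThetaS.linePt (R := R) (A := ThetaS.Lau R) (ThetaS.zPow R 1)) := by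
    have e0 : c = CoactBr.pt (ThetaS.linePt (R := R) (A := ThetaS.Lau R) 1) := by
      apply Over.OverMorphism.ext
      change G.hom ≫ ThetaS.onePt R = _
      rw [show (G.hom : G.left ⟶ _) = Spec.map (CommRingCat.ofHom (algebraMap R (ThetaS.Lau R))) from rfl,
        CoactBr.pt_left]
      change _ ≫ Spec.map (CommRingCat.ofHom (ThetaS.lineOne R).toRingHom) = _
      rw [← Spec.map_comp, ← CommRingCat.ofHom_comp]
      congr 2
      apply Polynomial.ringHom_ext <;> intros <;> simp [MonoidAlgebra.one_def]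
    have e1 := ThetaS.lineAction_pt (AlgHom.id R (ThetaS.Lau R)) (1 : ThetaS.Lau R)
    rw [CoactBr.pt_id, mul_one, AlgHom.id_apply, ← e0] at e1
    simp only [o, Category.id_comp]
    exact e1
  have hA₀ : Agrees d d' A₀ := by
    obtain ⟨Z, z, Φ, hz, hΦ, -⟩ := exists_rep_with (b := pairFun d d') hT hX hfp hci A₀
    obtain ⟨π⟩ := pair_of_agrees d d' hB
    obtain ⟨⟨s, hs⟩, -⟩ := (hΦ mB).2 (cls π)
    haveI := hz
    haveI : IsAffine ((ThetaS.Theta Scheme.fppfPrecoverage R h).p.obj A₀).left :=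
      inferInstanceAs (IsAffine (Spec (CommRingCat.of R[X])))
    haveI : IsAffine Z.left := isAffine_of_isAffineHom z.left
    have hinj : Function.Injective z.left.appTop := by
      have e : s.left ≫ z.left = o.left := congrArg (fun t => t.left) hs
      have e2 : ∀ x, o.left.appTop x = s.left.appTop (z.left.appTop x) := fun x => by
        rw [← e, Scheme.Hom.comp_appTop]; rfl
      intro x y exy
      have h3 : o.left.appTop x = o.left.appTop y := by rw [e2, e2, exy]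
      obtain ⟨p, rfl⟩ := (ConcreteCategory.bijective_of_isIso (Scheme.ΓSpecIso (CommRingCat.of R[X])).inv).2 x
      obtain ⟨q, rfl⟩ := (ConcreteCategory.bijective_of_isIso (Scheme.ΓSpecIso (CommRingCat.of R[X])).inv).2 y
      rw [ho] at h3
      have h4 : fnOf (R := R) (ThetaS.Lau R) (ThetaS.linePt (ThetaS.zPow R 1) p) =
          fnOf (R := R) (ThetaS.Lau R) (ThetaS.linePt (ThetaS.zPow R 1) q) :=
        (pt_appTop _ p).symm.trans (h3.trans (pt_appTop _ q))
      rw [lineInj R ((ConcreteCategory.bijective_of_isIso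
        (Scheme.ΓSpecIso (CommRingCat.of (ThetaS.Lau R))).inv).1 h4)]
    haveI : IsIso ((Over.forget S).map z) := IsClosedImmersion.isIso_of_injective_of_isAffine (f := z.left) hinj
    haveI : IsIso z := isIso_of_reflects_iso z (Over.forget S)
    obtain ⟨π₀, -⟩ := cls_surjective (Φ (𝟙 A₀) ⟨inv z, by
      rw [IsIso.inv_hom_id, CategoryTheory.Functor.map_id]⟩)
    exact agrees_of_pair d d' hX hY π₀
  have hloc : ∀ A : QuotObj Scheme.fppfPrecoverage G a, ∃ (A' : QuotObj Scheme.fppfPrecoverage G a)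
      (m : A' ⟶ A) (_ : A' ⟶ A₀), FppfHom ((Over.map h).map m.base) := by
    intro A
    let w' : (⟨A.P, ⟨𝟙 A.P ≫ A.φ⟩⟩ : (ofSch (ThetaS.Line R)).obj) ⟶ ⟨ThetaS.Line R, ⟨𝟙 _⟩⟩ :=
      ⟨A.φ, congrArg ULift.up ((Category.comp_id A.φ).trans (Category.id_comp A.φ).symm)⟩
    refine ⟨_, pointHom A (𝟙 A.P), (quotMap Scheme.fppfPrecoverage G a).map w', ?_⟩
    have e : (𝟙 A.P ≫ A.π).left = A.π.left := by rw [Category.id_comp]
    exact ⟨e ▸ flat_π ‹_› A, e ▸ lfp_π ‹_› A, e ▸ surjective_π A⟩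
  have haff : RepByAlgSpWith (AlgSp.RepWith @IsAffineHom) (diag f) :=
    repByAlgSpWith_mono (fun _ _ _ ha => SpPts86.repWith_mono (fun _ _ g (hg : IsClosedImmersion g) => haveI := hg; (inferInstance : IsAffineHom g)) ha) hci
  refine unique_of_agrees d d' hX hY fun A => ?_
  obtain ⟨A', m, k, hm⟩ := hloc A
  obtain ⟨π'⟩ := pair_of_agrees d d'
    (agrees_down (𝒯 := ThetaS.Theta Scheme.fppfPrecoverage R h) d d' hX hY k hA₀)
  obtain ⟨ε, -⟩ := exists_res_eq_of_fppf (b := pairFun d d') hT hX hfp haff m hm (cls π')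
    (fun _ _ _ => (subsingleton_cls d d' hX hY _).elim _ _)
  obtain ⟨π, -⟩ := cls_surjective ε
  exact agrees_of_pair d d' hX hY π

end Groth.Agent.Theta44
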