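import Groth.Agent.Theta44.Rep
import Mathlib.AlgebraicGeometry.Sites.Fpqc

/-!
Extension of compatible families of pairs from an open part of an atlas.
-/

set_option autoImplicit false
set_option maxHeartbeats 1000000
set_option linter.style.haveILetI false
set_option linter.unusedSectionVars false
set_option backward.isDefEq.respectTransparency false
set_option backward.isDefEq.respectTransparency.types false
universe u

open CategoryTheory CategoryTheory.Limits AlgebraicGeometry Opposite AlgSt FibCat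
open Groth.Agent.AlgSt88

namespace Groth.Agent.Theta44

variable {S : Scheme.{u}}

/-- Flat, locally finitely presented and surjective. -/
structure FppfHom {W T : Over S} (g : W ⟶ T) : Prop where
  flat : Flat g.left
  lfp : LocallyOfFinitePresentation g.left
  surj : Surjective g.left

theorem FppfHom.pullback_fst {W T W' P : Over S} {g : W ⟶ T} (hg : FppfHom g) {g' : W' ⟶ T} {p₁ : P ⟶ W'}
    {p₂ : P ⟶ W} (sq : IsPullback p₁ p₂ g' g) : FppfHom p₁ := by
  have sq' : IsPullback p₂.left p₁.left g.left g'.left := (sq.map (Over.forget S)).flip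
  exact ⟨MorphismProperty.of_isPullback sq' hg.flat, MorphismProperty.of_isPullback sq' hg.lfp,
    MorphismProperty.of_isPullback sq' hg.surj⟩

theorem FppfHom.desc {W T Z : Over S} {g : W ⟶ T} (hg : FppfHom g) (s : W ⟶ Z)
    (h : ∀ {P : Over S} (a b : P ⟶ W), a ≫ g = b ≫ g → a ≫ s = b ≫ s) : ∃! t : T ⟶ Z, g ≫ t = s := by
  haveI := hg.flat
  haveI := hg.lfp
  haveI := hg.surj
  have h' : ∀ {P : Scheme.{u}} (a b : P ⟶ W.left), a ≫ g.left = b ≫ g.left → a ≫ s.left = b ≫ s.left := by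
    intro P a b e
    have eb : b ≫ W.hom = a ≫ W.hom := by
      rw [← Over.w g, ← Category.assoc, ← e, Category.assoc]
    exact congrArg CommaMorphism.left (h (P := Over.mk (a ≫ W.hom)) (Over.homMk a rfl) (Over.homMk b eb)
      (Over.OverMorphism.ext e))
  let t := EffectiveEpi.desc g.left s.left h'
  have ht : g.left ≫ t = s.left := EffectiveEpi.fac _ _ _
  have hw : t ≫ Z.hom = T.hom := by
    rw [← cancel_epi g.left, ← Category.assoc, ht, Over.w s, Over.w g]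
  refine ⟨Over.homMk t hw, Over.OverMorphism.ext ht, fun t' ht' => Over.OverMorphism.ext ?_⟩
  rw [← cancel_epi g.left]
  exact (congrArg CommaMorphism.left ht').trans ht.symm

variable {𝒯 𝒳 𝒴 : AlgSt.Cat S} {f : 𝒳 ⥤ᵇ 𝒴} {b : 𝒯 ⥤ᵇ 𝒴}
  (hT : IsFibGrpd 𝒯.p) (hX : IsFibGrpd 𝒳.p) (hY : IsFibGrpd 𝒴.p) [f.toFunctor.Faithful]
  (hf : RepByAlgSpWith (AlgSp.RepWith @IsAffineHom) f)
include hT hX hY hf

/-- Classes are injective along coverings. -/
theorem res_injective_of_fppf {A A' : 𝒯.obj} (m : A' ⟶ A) (hm : FppfHom (𝒯.p.map m)) :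
    Function.Injective (res (f := f) (b := b) hX hY m) := by
  obtain ⟨Z, z, Φ, hz, hΦ, hnat⟩ := exists_affine_rep (f := f) (b := b) hT hX hY hf A
  intro x y hxy
  obtain ⟨⟨s, hs⟩, rfl⟩ := (hΦ (𝟙 A)).2 x
  obtain ⟨⟨s', hs'⟩, rfl⟩ := (hΦ (𝟙 A)).2 y
  rw [hnat, hnat] at hxy
  have e : 𝒯.p.map m ≫ s = 𝒯.p.map m ≫ s' := congrArg Subtype.val ((hΦ _).1 hxy)
  haveI := hm.flat
  haveI := hm.lfp
  haveI := hm.surj
  have : s = s' := Over.OverMorphism.ext ((cancel_epi (𝒯.p.map m).left).1 (congrArg CommaMorphism.left e))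
  subst this
  rfl

/-- Classes descend along coverings. -/
theorem exists_res_eq_of_fppf {A A' : 𝒯.obj} (m : A' ⟶ A) (hm : FppfHom (𝒯.p.map m)) (ε' : Cls f b A')
    (h : ∀ {Q : 𝒯.obj} (n n' : Q ⟶ A'), n ≫ m = n' ≫ m → res hX hY n ε' = res hX hY n' ε') :
    ∃ ε : Cls f b A, res hX hY m ε = ε' := by
  obtain ⟨Z, z, Φ, hz, hΦ, hnat⟩ := exists_affine_rep (f := f) (b := b) hT hX hY hf A
  obtain ⟨⟨s, hs⟩, rfl⟩ := (hΦ m).2 ε'
  obtain ⟨t, ht, -⟩ := hm.desc s fun {P} u v e => by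
    obtain ⟨Q, n, hn⟩ := Fib44.exists_lift' 𝒯.p hT (rfl : 𝒯.p.obj A' = _) u
    have hQ : 𝒯.p.obj Q = P := IsHomLift.domain_eq 𝒯.p u n
    subst hQ
    obtain ⟨n', hn'1, hn'2⟩ := fg_exists_fac hT m (n ≫ m) v (by
      rw [Functor.map_comp, IsHomLift.fac' 𝒯.p u n]
      simpa using e.symm)
    have h2 := h n n' hn'2.symm
    rw [hnat, hnat] at h2
    have key : ∀ {m₁ m₂ : Q ⟶ A} (_ : m₁ = m₂) (s₁ : {s // s ≫ z = 𝒯.p.map m₁}) (s₂ : {s // s ≫ z = 𝒯.p.map m₂}),
        Φ m₁ s₁ = Φ m₂ s₂ → s₁.1 = s₂.1 := by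
      rintro m₁ _ rfl s₁ s₂ hs₁₂
      exact congrArg Subtype.val ((hΦ _).1 hs₁₂)
    have h3 := key hn'2.symm _ _ h2
    simp only [hn'1] at h3
    rw [show 𝒯.p.map n = u from (IsHomLift.fac' 𝒯.p u n).trans (by simp)] at h3
    exact h3
  have htz : t ≫ z = 𝒯.p.map (𝟙 A) := by
    haveI := hm.flat
    haveI := hm.lfp
    haveI := hm.surj
    apply Over.OverMorphism.ext
    rw [← cancel_epi (𝒯.p.map m).left]
    refine congrArg CommaMorphism.left (?_ : 𝒯.p.map m ≫ t ≫ z = 𝒯.p.map m ≫ 𝒯.p.map (𝟙 A))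
    rw [← Category.assoc, ht, hs, 𝒯.p.map_id, Category.comp_id]
  refine ⟨Φ (𝟙 A) ⟨t, htz⟩, ?_⟩
  have key : ∀ {m₁ : A' ⟶ A} (_ : m₁ = m) (s₁ : {s // s ≫ z = 𝒯.p.map m₁}), s₁.1 = s →
      Φ m₁ s₁ = Φ m ⟨s, hs⟩ := by
    rintro m₁ rfl ⟨s₁, hs₁⟩ (rfl : s₁ = s)
    rfl
  rw [hnat]
  exact key (Category.comp_id m) _ ht

/-- Classes are injective along an open immersion with injective restriction of functions. -/
theorem res_injective_of_open {A A' : 𝒯.obj} (m : A' ⟶ A) [IsAffine (𝒯.p.obj A).left]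
    (hinj : Function.Injective (𝒯.p.map m).left.appTop) :
    Function.Injective (res (f := f) (b := b) hX hY m) := by
  obtain ⟨Z, z, Φ, hz, hΦ, hnat⟩ := exists_affine_rep (f := f) (b := b) hT hX hY hf A
  intro x y hxy
  obtain ⟨⟨s, hs⟩, rfl⟩ := (hΦ (𝟙 A)).2 x
  obtain ⟨⟨s', hs'⟩, rfl⟩ := (hΦ (𝟙 A)).2 y
  rw [hnat, hnat] at hxy
  haveI : IsAffine Z.left := isAffine_of_isAffineHom z.left
  have e : (𝒯.p.map m).left ≫ s.left = (𝒯.p.map m).left ≫ s'.left :=
    congrArg CommaMorphism.left (congrArg Subtype.val ((hΦ _).1 hxy))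
  have h1 : s.left = s'.left := ext_of_isAffine (by
    ext q
    apply hinj
    have := congrArg (fun t => t.appTop q) e
    simpa using this)
  have : s = s' := Over.OverMorphism.ext h1
  subst this
  rfl

/-- Classes extend along a morphism with bijective restriction of functions. -/
theorem res_surjective_of_open {A A' : 𝒯.obj} (m : A' ⟶ A) [IsAffine (𝒯.p.obj A).left]
    (hbij : Function.Bijective (𝒯.p.map m).left.appTop) :
    Function.Surjective (res (f := f) (b := b) hX hY m) := by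
  obtain ⟨Z, z, Φ, hz, hΦ, hnat⟩ := exists_affine_rep (f := f) (b := b) hT hX hY hf A
  intro x
  obtain ⟨⟨s, hs⟩, rfl⟩ := (hΦ m).2 x
  haveI : IsAffine Z.left := isAffine_of_isAffineHom z.left
  haveI : IsIso (𝒯.p.map m).left.appTop := (ConcreteCategory.isIso_iff_bijective _).2 hbij
  let t : (𝒯.p.obj A).left ⟶ Z.left :=
    (𝒯.p.obj A).left.toSpecΓ ≫ Spec.map (s.left.appTop ≫ inv (𝒯.p.map m).left.appTop) ≫ Z.left.isoSpec.inv
  have ht : (𝒯.p.map m).left ≫ t = s.left := by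
    simp only [t]
    rw [← Category.assoc, Scheme.toSpecΓ_naturality, Category.assoc, ← Spec.map_comp_assoc, Category.assoc,
      IsIso.inv_hom_id, Category.comp_id, ← Scheme.toSpecΓ_naturality_assoc, ← Scheme.isoSpec_hom,
      Iso.hom_inv_id, Category.comp_id]
  have htz : t ≫ z.left = 𝟙 _ := ext_of_isAffine (by
    rw [← cancel_mono (𝒯.p.map m).left.appTop, ← Scheme.Hom.comp_appTop, ← Scheme.Hom.comp_appTop,
      ← Category.assoc, ht, Category.comp_id]
    exact congrArg (fun q => q.left.appTop) hs)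
  have htS : t ≫ Z.hom = (𝒯.p.obj A).hom := by
    rw [← Over.w z, ← Category.assoc, htz, Category.id_comp]
  refine ⟨Φ (𝟙 A) ⟨Over.homMk t htS, by rw [𝒯.p.map_id]; exact Over.OverMorphism.ext htz⟩, ?_⟩
  have key : ∀ {m₁ : A' ⟶ A} (_ : m₁ = m) (s₁ : {s // s ≫ z = 𝒯.p.map m₁}), s₁.1 = s →
      Φ m₁ s₁ = Φ m ⟨s, hs⟩ := by
    rintro m₁ rfl ⟨s₁, hs₁⟩ (rfl : s₁ = s)
    rfl
  rw [hnat]
  exact key (Category.comp_id m) _ (Over.OverMorphism.ext ht)

/-- Compatible families on the objects over an open part of an atlas extend uniquely. -/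
theorem extends_of_atlas {P : 𝒯.obj → Prop} (A₀ : 𝒯.obj) [IsAffine (𝒯.p.obj A₀).left]
    (V : (𝒯.p.obj A₀).left.Opens) (hV : Function.Bijective V.ι.appTop)
    (hP : ∀ {A : 𝒯.obj} (k : A ⟶ A₀), P A ↔ Set.range (𝒯.p.map k).left ⊆ (V : Set (𝒯.p.obj A₀).left))
    (hPdown : ∀ {A A' : 𝒯.obj} (_ : A' ⟶ A), P A → P A')
    (hloc : ∀ A : 𝒯.obj, ∃ (A' : 𝒯.obj) (m : A' ⟶ A) (_ : A' ⟶ A₀), FppfHom (𝒯.p.map m))
    (A₁ : 𝒯.obj) [IsAffine (𝒯.p.obj A₁).left] (n₁ n₂ : A₁ ⟶ A₀)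
    (hn : ∀ {A : 𝒯.obj} (k k' : A ⟶ A₀), ∃ q : A ⟶ A₁, q ≫ n₁ = k ∧ q ≫ n₂ = k')
    (hW : Function.Injective ((𝒯.p.map n₁).left ⁻¹ᵁ V).ι.appTop) :
    (∀ τ : ∀ A, P A → Cls f b A,
      (∀ {A A' : 𝒯.obj} (m : A' ⟶ A) (h : P A) (h' : P A'), res hX hY m (τ A h) = τ A' h') →
        ∃ ε : ∀ A, Cls f b A, IsNat hX hY ε ∧ ∀ A (h : P A), ε A = τ A h) ∧
      ∀ ε ε' : ∀ A, Cls f b A, IsNat hX hY ε → IsNat hX hY ε' → (∀ A (_ : P A), ε A = ε' A) → ε = ε' := by
  have hlift : ∀ {A : 𝒯.obj} (U : (𝒯.p.obj A).left.Opens), ∃ (B : 𝒯.obj) (j : B ⟶ A),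
      Set.range (𝒯.p.map j).left = (U : Set _) ∧
      (Function.Injective U.ι.appTop → Function.Injective (𝒯.p.map j).left.appTop) ∧
      (Function.Bijective U.ι.appTop → Function.Bijective (𝒯.p.map j).left.appTop) ∧
      IsOpenImmersion (𝒯.p.map j).left := by
    intro A U
    let u : Over.mk (U.ι ≫ (𝒯.p.obj A).hom) ⟶ 𝒯.p.obj A := Over.homMk U.ι rfl
    obtain ⟨B, hB, j, hj⟩ := fg_exists_lift hT u
    haveI : IsIso (eqToHom hB).left := inferInstanceAs (IsIso ((Over.forget S).map (eqToHom hB)))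
    have e : (𝒯.p.map j).left = (eqToHom hB).left ≫ U.ι := by rw [hj]; rfl
    have hb : Function.Bijective (eqToHom hB).left.appTop :=
      ConcreteCategory.bijective_of_isIso _
    refine ⟨B, j, ?_, fun h => ?_, fun h => ?_, ?_⟩
    · rw [e]
      ext x
      constructor
      · rintro ⟨y, rfl⟩
        exact ((eqToHom hB).left y).2
      · intro hx
        obtain ⟨y, hy⟩ := (eqToHom hB).left.surjective ⟨x, hx⟩
        exact ⟨y, by rw [Scheme.Hom.comp_apply, hy]; rfl⟩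
    · rw [e, Scheme.Hom.comp_appTop]
      exact hb.1.comp h
    · rw [e, Scheme.Hom.comp_appTop]
      exact hb.comp h
    · rw [e]
      infer_instance
  obtain ⟨AV, j₀, hj₀r, -, hj₀b, hj₀o⟩ := hlift V
  have hPV : P AV := (hP j₀).2 hj₀r.subset
  have hbij := hj₀b hV
  refine ⟨fun τ hτ => ?_, fun ε ε' hε hε' he => ?_⟩
  · obtain ⟨ξ, hξ⟩ := res_surjective_of_open hT hX hY hf (b := b) j₀ hbij (τ AV hPV)
    have hL : ∀ {A : 𝒯.obj} (h : P A) (k : A ⟶ A₀), res hX hY k ξ = τ A h := by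
      intro A h k
      haveI := hj₀o
      have hr : Set.range (𝒯.p.map k).left ⊆ Set.range (𝒯.p.map j₀).left := hj₀r ▸ (hP k).1 h
      let g := IsOpenImmersion.lift (𝒯.p.map j₀).left (𝒯.p.map k).left hr
      let g' : 𝒯.p.obj A ⟶ 𝒯.p.obj AV := Over.homMk g (by
        rw [← Over.w (𝒯.p.map j₀), ← Category.assoc, IsOpenImmersion.lift_fac, Over.w])
      obtain ⟨q, -, rfl⟩ := fg_exists_fac hT j₀ k g' (Over.OverMorphism.ext (IsOpenImmersion.lift_fac _ _ hr))
      rw [res_comp, hξ, hτ q hPV h]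
    have hkey : res hX hY n₁ ξ = res hX hY n₂ ξ := by
      obtain ⟨B, j, hjr, hji, -, -⟩ := hlift ((𝒯.p.map n₁).left ⁻¹ᵁ V)
      have hPB : P B := (hP (j ≫ n₁)).2 (by
        rw [Functor.map_comp]
        rintro _ ⟨y, rfl⟩
        exact (hjr.subset ⟨y, rfl⟩ : (𝒯.p.map j).left y ∈ (𝒯.p.map n₁).left ⁻¹ᵁ V))
      refine res_injective_of_open hT hX hY hf j (hji hW) ?_
      rw [← res_comp, ← res_comp, hL hPB, hL hPB]
    have hall : ∀ {A : 𝒯.obj} (k k' : A ⟶ A₀), res hX hY k ξ = res hX hY k' ξ := by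
      intro A k k'
      obtain ⟨q, rfl, rfl⟩ := hn k k'
      rw [res_comp, res_comp, hkey]
    choose A' m k hm using hloc
    choose ε hε using fun A => exists_res_eq_of_fppf hT hX hY hf (b := b) (m A) (hm A) (res hX hY (k A) ξ)
      (fun n n' _ => by rw [← res_comp, ← res_comp]; exact hall _ _)
    have hchar : ∀ {A B : 𝒯.obj} (m' : B ⟶ A) (k' : B ⟶ A₀), res hX hY m' (ε A) = res hX hY k' ξ := by
      intro A B m' k'
      obtain ⟨Q, hQ, n, hn'⟩ := fg_exists_lift hT (pullback.fst (𝒯.p.map m') (𝒯.p.map (m A)))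
      obtain ⟨n', -, hn''⟩ := fg_exists_fac hT (m A) (n ≫ m') (eqToHom hQ ≫ pullback.snd _ _) (by
        rw [Functor.map_comp, hn', Category.assoc, Category.assoc, pullback.condition])
      have hsurj : FppfHom (𝒯.p.map n) := by
        have h0 := (hm A).pullback_fst (IsPullback.of_hasPullback (𝒯.p.map m') (𝒯.p.map (m A)))
        haveI : IsIso (eqToHom hQ).left := inferInstanceAs (IsIso ((Over.forget S).map (eqToHom hQ)))
        have e : (𝒯.p.map n).left = (eqToHom hQ).left ≫ (pullback.fst (𝒯.p.map m') (𝒯.p.map (m A))).left := by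
          rw [hn']; rfl
        haveI := h0.flat
        haveI := h0.lfp
        haveI := h0.surj
        exact ⟨by rw [e]; infer_instance, by rw [e]; infer_instance, by rw [e]; infer_instance⟩
      refine res_injective_of_fppf hT hX hY hf n hsurj ?_
      rw [← res_comp, ← res_comp, ← hn'', res_comp, hε, ← res_comp]
      exact hall _ _
    refine ⟨ε, fun {A B} u => ?_, fun A h => ?_⟩
    · refine res_injective_of_fppf hT hX hY hf (m B) (hm B) ?_
      rw [← res_comp, hε, hchar]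
    · refine res_injective_of_fppf hT hX hY hf (m A) (hm A) ?_
      rw [hε, hτ (m A) h (hPdown (m A) h), hL (hPdown (m A) h)]
  · have h0 : ε A₀ = ε' A₀ := res_injective_of_open hT hX hY hf j₀ hbij.1
      (by rw [hε j₀, hε' j₀, he AV hPV])
    funext A
    obtain ⟨A', m, k, hm⟩ := hloc A
    refine res_injective_of_fppf hT hX hY hf m hm ?_
    rw [hε m, hε' m, ← hε k, ← hε' k, h0]

end Groth.Agent.Theta44
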