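import Groth.Prelude.Def_LiftSq
import Groth.Prelude.Def_AlgSt2
import Groth.Agent.Fib44.Basic

/-!
Pairs over the objects of a category mapping to the target of a functor `f`, and the dotted arrows of a
square whose left side is the inclusion of a full subcategory.
-/

set_option autoImplicit false
set_option linter.style.haveILetI false
set_option linter.unusedSectionVars false
set_option backward.isDefEq.respectTransparency false
set_option backward.isDefEq.respectTransparency.types false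

universe v₄ u₄ v₃ u₃ v₂ u₂ v u

open CategoryTheory CategoryTheory.Functor

namespace Groth.Agent.Theta44

variable {C : Type u} [Category.{v} C] {𝒯 : BasedCategory.{v₂, u₂} C}
  {𝒳 : BasedCategory.{v₃, u₃} C} {𝒴 : BasedCategory.{v₄, u₄} C}
  (f : 𝒳 ⥤ᵇ 𝒴) (b : 𝒯 ⥤ᵇ 𝒴)

/-- An object of the source of `f` over `A` with an identification of its image with that of `A`. -/
structure Pair (A : 𝒯.obj) where
  x : 𝒳.obj
  over : 𝒳.p.obj x = 𝒯.p.obj A
  ι : f.obj x ⟶ b.obj A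
  lift : 𝒴.p.IsHomLift (𝟙 (𝒯.p.obj A)) ι

variable {f b}

/-- `π'` is a restriction of `π` along `m`. -/
def IsRes {A A' : 𝒯.obj} (m : A' ⟶ A) (π' : Pair f b A') (π : Pair f b A) : Prop :=
  ∃ θ : π'.x ⟶ π.x, 𝒳.p.IsHomLift (𝒯.p.map m) θ ∧ f.map θ ≫ π.ι = π'.ι ≫ b.map m

theorem IsRes.refl {A : 𝒯.obj} (π : Pair f b A) : IsRes (𝟙 A) π π := by
  refine ⟨𝟙 _, ?_, by rw [b.map_id, Category.comp_id, f.map_id, Category.id_comp]⟩
  rw [𝒯.p.map_id]
  exact IsHomLift.id π.over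

theorem IsRes.comp {A A' A'' : 𝒯.obj} {m' : A'' ⟶ A'} {m : A' ⟶ A} {π'' : Pair f b A''} {π' : Pair f b A'}
    {π : Pair f b A} (h' : IsRes m' π'' π') (h : IsRes m π' π) : IsRes (m' ≫ m) π'' π := by
  obtain ⟨θ', hθ', e'⟩ := h'
  obtain ⟨θ, hθ, e⟩ := h
  refine ⟨θ' ≫ θ, ?_, ?_⟩
  · rw [𝒯.p.map_comp]; infer_instance
  · rw [f.map_comp, Category.assoc, e, reassoc_of% e', b.map_comp]

variable (hX : FibCat.IsFibGrpd 𝒳.p) (hY : FibCat.IsFibGrpd 𝒴.p)
include hX hY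

theorem exists_res {A A' : 𝒯.obj} (m : A' ⟶ A) (π : Pair f b A) : ∃ π' : Pair f b A', IsRes m π' π := by
  obtain ⟨x', θ, hθ⟩ := Fib44.exists_lift' 𝒳.p hX π.over (𝒯.p.map m)
  have := π.lift
  have h1 : 𝒴.p.IsHomLift (𝒯.p.map m) (f.map θ ≫ π.ι) := inferInstance
  have h2 : 𝒴.p.IsHomLift (𝒯.p.map m) (b.map m) := inferInstance
  have := Fib44.isSC_of_fibGrpd 𝒴.p hY (𝒯.p.map m) (b.map m)
  exact ⟨⟨x', IsHomLift.domain_eq 𝒳.p (𝒯.p.map m) θ, IsCartesian.map 𝒴.p (𝒯.p.map m) (b.map m) (f.map θ ≫ π.ι),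
    IsCartesian.map_isHomLift 𝒴.p (𝒯.p.map m) (b.map m) (f.map θ ≫ π.ι)⟩, θ, hθ,
    (IsCartesian.fac 𝒴.p (𝒯.p.map m) (b.map m) (f.map θ ≫ π.ι)).symm⟩

variable [f.toFunctor.Faithful]

omit hX in
theorem isRes_hom_unique {A A' : 𝒯.obj} (m : A' ⟶ A) {π' : Pair f b A'} {π : Pair f b A}
    (θ θ' : π'.x ⟶ π.x) (e : f.map θ ≫ π.ι = π'.ι ≫ b.map m) (e' : f.map θ' ≫ π.ι = π'.ι ≫ b.map m) :
    θ = θ' := by
  have := π.lift
  have := Fib44.isIso_of_fibGrpd 𝒴.p hY (𝟙 (𝒯.p.obj A)) π.ι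
  exact f.toFunctor.map_injective ((cancel_mono π.ι).1 (e.trans e'.symm))

omit hY [f.toFunctor.Faithful] in
theorem IsRes.symm {A : 𝒯.obj} {π π' : Pair f b A} (h : IsRes (𝟙 A) π π') : IsRes (𝟙 A) π' π := by
  obtain ⟨θ, hθ, e⟩ := h
  rw [𝒯.p.map_id] at hθ
  have := Fib44.isIso_of_fibGrpd 𝒳.p hX (𝟙 (𝒯.p.obj A)) θ
  refine ⟨inv θ, ?_, ?_⟩
  · rw [𝒯.p.map_id]; infer_instance
  · rw [b.map_id, Category.comp_id] at e ⊢
    rw [← e, ← Category.assoc, ← f.map_comp, IsIso.inv_hom_id, f.map_id, Category.id_comp]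

omit hY [f.toFunctor.Faithful] hX in
theorem IsRes.congr {A A' : 𝒯.obj} {m m' : A' ⟶ A} (e : m = m') {π' : Pair f b A'} {π : Pair f b A}
    (h : IsRes m π' π) : IsRes m' π' π := e ▸ h

theorem IsRes.unique {A A' : 𝒯.obj} (m : A' ⟶ A) {π₁ π₂ : Pair f b A'} {π : Pair f b A}
    (h₁ : IsRes m π₁ π) (h₂ : IsRes m π₂ π) : IsRes (𝟙 A') π₁ π₂ := by
  obtain ⟨θ₁, hθ₁, e₁⟩ := h₁
  obtain ⟨θ₂, hθ₂, e₂⟩ := h₂
  have := Fib44.isSC_of_fibGrpd 𝒳.p hX (𝒯.p.map m) θ₂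
  let χ := IsCartesian.map 𝒳.p (𝒯.p.map m) θ₂ θ₁
  have hχ : 𝒳.p.IsHomLift (𝟙 (𝒯.p.obj A')) χ := IsCartesian.map_isHomLift 𝒳.p (𝒯.p.map m) θ₂ θ₁
  refine ⟨χ, by rw [𝒯.p.map_id]; exact hχ, ?_⟩
  have hl₁ := π₁.lift
  have hl₂ := π₂.lift
  have h2 : 𝒴.p.IsHomLift (𝒯.p.map m) (b.map m) := inferInstance
  have := Fib44.isSC_of_fibGrpd 𝒴.p hY (𝒯.p.map m) (b.map m)
  rw [b.map_id, Category.comp_id]
  refine IsCartesian.ext 𝒴.p (𝒯.p.map m) (b.map m) _ _ ?_
  rw [Category.assoc, ← e₂, ← Category.assoc, ← f.map_comp, IsCartesian.fac, e₁]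

omit hY [f.toFunctor.Faithful] hX

variable (f b) in
/-- The relation of being isomorphic pairs. -/
def PairRel (A : 𝒯.obj) (π π' : Pair f b A) : Prop := IsRes (𝟙 A) π π'

variable (f b) in
/-- Isomorphism classes of pairs. -/
def Cls (A : 𝒯.obj) := Quot (PairRel f b A)

theorem pairRel_trans {A : 𝒯.obj} {π π' π'' : Pair f b A} (h : PairRel f b A π π') (h' : PairRel f b A π' π'') :
    PairRel f b A π π'' := (IsRes.comp h h').congr (Category.comp_id _)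

/-- The class of a pair. -/
def cls {A : 𝒯.obj} (π : Pair f b A) : Cls f b A := Quot.mk _ π

theorem cls_surjective {A : 𝒯.obj} (ε : Cls f b A) : ∃ π, cls π = ε := Quot.exists_rep ε

include hX hY

omit hY in
theorem cls_eq_iff {A : 𝒯.obj} (π π' : Pair f b A) : cls π = cls π' ↔ IsRes (𝟙 A) π π' :=
  Equivalence.quot_mk_eq_iff (r := PairRel f b A)
    ⟨IsRes.refl, fun h => IsRes.symm hX h, pairRel_trans⟩ π π'

/-- Restriction of classes. -/
noncomputable def res {A A' : 𝒯.obj} (m : A' ⟶ A) : Cls f b A → Cls f b A' :=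
  Quot.lift (fun π => cls (exists_res hX hY m π).choose) fun π π' h => by
    refine (cls_eq_iff hX _ _).2 (IsRes.unique hX hY m ((IsRes.comp (exists_res hX hY m π).choose_spec h).congr
      (Category.comp_id m)) (exists_res hX hY m π').choose_spec)

variable [f.toFunctor.Faithful]

theorem res_cls_iff {A A' : 𝒯.obj} (m : A' ⟶ A) (π : Pair f b A) (π' : Pair f b A') :
    res hX hY m (cls π) = cls π' ↔ IsRes m π' π := by
  change cls (exists_res hX hY m π).choose = cls π' ↔ _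
  rw [cls_eq_iff hX]
  refine ⟨fun h => (IsRes.comp (IsRes.symm hX h) (exists_res hX hY m π).choose_spec).congr (Category.id_comp m),
    fun h => IsRes.unique hX hY m (exists_res hX hY m π).choose_spec h⟩

theorem res_id {A : 𝒯.obj} (ε : Cls f b A) : res hX hY (𝟙 A) ε = ε := by
  obtain ⟨π, rfl⟩ := cls_surjective ε
  exact (res_cls_iff hX hY _ _ _).2 (IsRes.refl π)

theorem res_comp {A A' A'' : 𝒯.obj} (m' : A'' ⟶ A') (m : A' ⟶ A) (ε : Cls f b A) :
    res hX hY (m' ≫ m) ε = res hX hY m' (res hX hY m ε) := by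
  obtain ⟨π, rfl⟩ := cls_surjective ε
  obtain ⟨π', h⟩ := exists_res hX hY m π
  obtain ⟨π'', h'⟩ := exists_res hX hY m' π'
  rw [(res_cls_iff hX hY m π π').2 h, (res_cls_iff hX hY m' π' π'').2 h']
  exact (res_cls_iff hX hY _ _ _).2 (h'.comp h)

section Lifts

variable (P : 𝒯.obj → Prop)

/-- A compatible family of classes on all objects. -/
def IsNat (ε : ∀ A, Cls f b A) : Prop := ∀ {A A' : 𝒯.obj} (m : A' ⟶ A), res hX hY m (ε A) = ε A'

variable (f b) in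
/-- Existence and uniqueness of extensions of compatible families given on the objects with `P`. -/
def Extends : Prop :=
  ∀ τ : ∀ A, P A → Cls f b A,
    (∀ {A A' : 𝒯.obj} (m : A' ⟶ A) (h : P A) (h' : P A'), res hX hY m (τ A h) = τ A' h') →
      ∃! ε : ∀ A, Cls f b A, IsNat hX hY ε ∧ ∀ A (h : P A), ε A = τ A h

end Lifts

end Groth.Agent.Theta44
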