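import Groth.Agent.Theta44.Pairs
import Groth.Agent.AlgSt88.Setoid
import Groth.Agent.AlgSt88.PshRep
import Groth.Agent.AlgSt88.RepSp
import Groth.Agent.Fib44.Fp

/-!
Classes of pairs for an affine morphism are represented by affine schemes.
-/

set_option autoImplicit false
set_option maxHeartbeats 1000000
set_option linter.style.haveILetI false
set_option linter.unusedSectionVars false
set_option backward.isDefEq.respectTransparency false
set_option backward.isDefEq.respectTransparency.types false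
universe w v w₁ v₁ u

open CategoryTheory CategoryTheory.Limits AlgebraicGeometry Opposite AlgSt FibCat
open Groth.Agent.AlgSt88

namespace Groth.Agent.Theta44

variable {S : Scheme.{u}}

/-- A morphism to a scheme represented with a property comes from a scheme over it with that property. -/
theorem exists_scheme_of_repWith {Q : MorphismProperty Scheme.{u}} {T : Over S} {F : AlgSp.Sp S}
    (a : F ⟶ (AlgSp.yon S).obj T) (ha : AlgSp.RepWith Q a) :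
    ∃ (Z : Over S) (z : Z ⟶ T) (i : (AlgSp.yon S).obj Z ⟶ F),
      Q z.left ∧ IsIso i ∧ i ≫ a = (AlgSp.yon S).map z := by
  obtain ⟨hr, hP⟩ := (AlgSp.repWith_iff _ a).1 ha
  have sq := hr.isPullback (𝟙 ((AlgSp.yon S).obj T))
  refine ⟨_, hr.snd (𝟙 _), hr.fst (𝟙 _), hP _ _ _ sq, sq.isIso_fst_of_isIso, ?_⟩
  exact sq.w.trans (Category.comp_id _)

variable {𝒯 𝒳 𝒴 : AlgSt.Cat S} {f : 𝒳 ⥤ᵇ 𝒴} {b : 𝒯 ⥤ᵇ 𝒴}

/-- Isomorphism classes of pairs over the objects mapping to `A` are the sections of a scheme with the property. -/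
theorem exists_rep_with {Q : MorphismProperty Scheme.{u}} (hT : IsFibGrpd 𝒯.p) (hX : IsFibGrpd 𝒳.p)
    (hY : IsFibGrpd 𝒴.p) [f.toFunctor.Faithful] (hf : RepByAlgSpWith (AlgSp.RepWith Q) f) (A : 𝒯.obj) :
    ∃ (Z : Over S) (z : Z ⟶ 𝒯.p.obj A)
      (Φ : ∀ {A' : 𝒯.obj} (m : A' ⟶ A), {s : 𝒯.p.obj A' ⟶ Z // s ≫ z = 𝒯.p.map m} → Cls f b A'),
      Q z.left ∧ (∀ {A' : 𝒯.obj} (m : A' ⟶ A), Function.Bijective (Φ m)) ∧
      ∀ {A' A'' : 𝒯.obj} (m : A' ⟶ A) (n : A'' ⟶ A') (s : {s : 𝒯.p.obj A' ⟶ Z // s ≫ z = 𝒯.p.map m}),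
        res hX hY n (Φ m s) = Φ (n ≫ m) ⟨𝒯.p.map n ≫ s.1, by
          rw [Category.assoc, s.2, Functor.map_comp]⟩ := by
  let T := 𝒯.p.obj A
  let cl := classify hT A (rfl : 𝒯.p.obj A = T)
  obtain ⟨ε, hε⟩ := classify_mk_id hT A (rfl : 𝒯.p.obj A = T)
  obtain ⟨F, e, he, hP⟩ := hf T (BasedFunctor.comp cl b)
  obtain ⟨Z, z, i, hz, hi, hiz⟩ := exists_scheme_of_repWith _ hP
  haveI := hi
  let E : ofSch Z ⥤ᵇ fp (BasedFunctor.comp cl b) f := BasedFunctor.comp (ofSpMap i) e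
  have hE : IsEquivOver E := isEquivOver_comp (isEquivOver_ofSpMap i) he
  have hfst : ∀ o : (ofSch Z).obj, ∃ h : (E.obj o).obj.fst.left = o.base,
      (E.obj o).obj.fst.hom = eqToHom h ≫ o.sec.down ≫ z := by
    intro o
    obtain ⟨α⟩ := exists_hom_iso (BasedFunctor.comp (BasedFunctor.comp E (fpFst _ f)) (ofOverCat T))
    have hh : homOfBased (BasedFunctor.comp (BasedFunctor.comp E (fpFst _ f)) (ofOverCat T)) =
        (AlgSp.yon S).map z := by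
      rw [← spMapOfOver_eq, show BasedFunctor.comp E (fpFst (BasedFunctor.comp cl b) f) =
        BasedFunctor.comp (ofSpMap i) (BasedFunctor.comp e (fpFst _ f)) from rfl, spMapOfOver_comp,
        homOfBased_ofSpMap]
      exact hiz
    rw [hh] at α
    let γ := α.hom.toNatTrans.app o
    have hb : (E.obj o).obj.fst.left = o.base :=
      haveI : (ofSch T).p.IsHomLift (𝟙 o.base) γ := α.hom.isHomLift' o
      IsHomLift.domain_eq (ofSch T).p (𝟙 o.base) γ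
    refine ⟨hb, ?_⟩
    have h1 : γ.hom = eqToHom hb :=
      (@IsHomLift.fac' _ _ _ _ (ofSch T).p _ _ _ _ _ γ (α.hom.isHomLift' o)).trans (by simp)
    have h2 : γ.hom ≫ (o.sec.down ≫ z) = (E.obj o).obj.fst.hom := congrArg ULift.down γ.map_sec
    rw [h1] at h2
    exact h2.symm
  have hd := isEquivData_of_isEquivOver hE
  -- the comparison of the classifying functor with the object
  let μ : ∀ k : Over T, cl.obj k ⟶ A := fun k =>
    cl.map (Over.homMk k.hom (Category.comp_id _) : k ⟶ Over.mk (𝟙 T)) ≫ ε.hom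
  have hμ : ∀ k : Over T, 𝒯.p.IsHomLift k.hom (μ k) := fun k => by
    let t : k ⟶ Over.mk (𝟙 T) := Over.homMk k.hom (Category.comp_id _)
    have h0 : (overCat T).p.IsHomLift k.hom t := IsHomLift.map (overCat T).p t
    have h1 : 𝒯.p.IsHomLift k.hom (cl.map t) := BasedFunctor.preserves_isHomLift cl k.hom t
    haveI := hε
    have h2 : 𝒯.p.IsHomLift (k.hom ≫ 𝟙 T) (cl.map t ≫ ε.hom) :=
      @IsHomLift.comp _ _ _ _ 𝒯.p _ _ _ _ _ _ _ _ _ _ h1 hε
    rwa [Category.comp_id] at h2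
  -- pairs given by objects of the fibre product
  let Qp : ∀ w : (fp (BasedFunctor.comp cl b) f).obj, Pair f b (cl.obj w.obj.fst) := fun w =>
    { x := w.obj.snd
      over := ((fpSnd (BasedFunctor.comp cl b) f).w_obj w).trans (cl.w_obj w.obj.fst).symm
      ι := w.obj.iso.inv
      lift := by
        have : 𝒴.p.IsHomLift (𝟙 ((overCat T).p.obj w.obj.fst)) w.obj.iso.hom := w.property
        exact Fib44.lift_id_of_eq 𝒴.p (cl.w_obj w.obj.fst).symm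
          (IsHomLift.lift_id_inv (p := 𝒴.p) ((overCat T).p.obj w.obj.fst) w.obj.iso) }
  have hQ : ∀ {w w' : (fp (BasedFunctor.comp cl b) f).obj} (χ : w ⟶ w'),
      IsRes (cl.map χ.hom.fst) (Qp w) (Qp w') := fun {w w'} χ => by
    refine ⟨χ.hom.snd, ?_, ?_⟩
    · have h1 : 𝒳.p.IsHomLift ((overCat T).p.map χ.hom.fst) χ.hom.snd := FibCat.fp_isHomLift_snd _ _ χ
      rw [p_map_eq cl χ.hom.fst]
      infer_instance
    · change f.map χ.hom.snd ≫ w'.obj.iso.inv = w.obj.iso.inv ≫ b.map (cl.map χ.hom.fst)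
      rw [Iso.comp_inv_eq, Category.assoc]
      exact ((Iso.inv_comp_eq _).2 χ.hom.w).symm
  -- arrows to the classifying functor
  have hfac : ∀ (k : Over T) {A' : 𝒯.obj} (m : A' ⟶ A) (h : 𝒯.p.obj A' = k.left),
      eqToHom h ≫ k.hom = 𝒯.p.map m →
        ∃! c : A' ⟶ cl.obj k, 𝒯.p.IsHomLift (eqToHom h) c ∧ c ≫ μ k = m := by
    intro k A' m h hk
    haveI := hμ k
    haveI := Fib44.isSC_of_fibGrpd 𝒯.p hT k.hom (μ k)
    haveI : 𝒯.p.IsHomLift (eqToHom h ≫ k.hom) m := by rw [hk]; exact IsHomLift.map _ _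
    exact Functor.IsStronglyCartesian.universal_property 𝒯.p k.hom (μ k) (eqToHom h) _ rfl m
  let o : ∀ {A' : 𝒯.obj} (s : 𝒯.p.obj A' ⟶ Z), (ofSch Z).obj := fun {A'} s => ⟨𝒯.p.obj A', ⟨s⟩⟩
  have hc : ∀ {A' : 𝒯.obj} (m : A' ⟶ A) (s : {s : 𝒯.p.obj A' ⟶ Z // s ≫ z = 𝒯.p.map m}),
      ∃! c : A' ⟶ cl.obj (E.obj (o s.1)).obj.fst,
        𝒯.p.IsHomLift (eqToHom (hfst (o s.1)).choose.symm) c ∧ c ≫ μ _ = m := fun {A'} m s =>
    hfac _ m (hfst (o s.1)).choose.symm (by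
      refine (congrArg (eqToHom _ ≫ ·) (hfst (o s.1)).choose_spec).trans ?_
      simp only [eqToHom_trans_assoc, eqToHom_refl, Category.id_comp]
      exact s.2)
  let Φ : ∀ {A' : 𝒯.obj} (m : A' ⟶ A), {s : 𝒯.p.obj A' ⟶ Z // s ≫ z = 𝒯.p.map m} → Cls f b A' :=
    fun m s => res hX hY (hc m s).exists.choose (cls (Qp (E.obj (o s.1))))
  have hμnat : ∀ {k k' : Over T} (t : k ⟶ k'), cl.map t ≫ μ k' = μ k := fun {k k'} t => by
    change cl.map t ≫ cl.map _ ≫ ε.hom = cl.map _ ≫ ε.hom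
    rw [← Category.assoc, ← cl.map_comp]
    congr 2
    exact Over.OverMorphism.ext (Over.w t)
  refine ⟨Z, z, Φ, hz, fun {A'} m => ⟨?_, ?_⟩, ?_⟩
  · -- injectivity
    rintro s s' hss
    obtain ⟨hc1, hc2⟩ := (hc m s).exists.choose_spec
    obtain ⟨hc1', hc2'⟩ := (hc m s').exists.choose_spec
    obtain ⟨h, hh⟩ := hfst (o s.1)
    obtain ⟨h', hh'⟩ := hfst (o s'.1)
    let t : (E.obj (o s.1)).obj.fst ⟶ (E.obj (o s'.1)).obj.fst := Over.homMk (eqToHom (h.trans h'.symm)) (by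
      rw [hh, hh', eqToHom_trans_assoc]
      exact congrArg (_ ≫ ·) ((s'.2).trans s.2.symm))
    set c := (hc m s).exists.choose
    set c' := (hc m s').exists.choose
    have ect : c ≫ cl.map t = c' := by
      refine (hc m s').unique ⟨?_, ?_⟩ ⟨hc1', hc2'⟩
      · have h0 : (overCat T).p.IsHomLift (eqToHom (h.trans h'.symm)) t := IsHomLift.map (overCat T).p t
        have h1 : 𝒯.p.IsHomLift (eqToHom (h.trans h'.symm)) (cl.map t) := BasedFunctor.preserves_isHomLift cl _ t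
        have h2 := @IsHomLift.comp _ _ _ _ 𝒯.p _ _ _ _ _ _ _ _ _ _ hc1 h1
        rwa [eqToHom_trans] at h2
      · rw [Category.assoc, hμnat, hc2]
    obtain ⟨π, hπ⟩ := cls_surjective (Φ m s)
    have r1 : IsRes c π (Qp (E.obj (o s.1))) := (res_cls_iff hX hY c _ π).1 hπ.symm
    have r2 : IsRes c' π (Qp (E.obj (o s'.1))) := (res_cls_iff hX hY c' _ π).1 (hss.symm.trans hπ.symm)
    haveI := hc1
    haveI : IsIso c := Fib44.isIso_of_fibGrpd 𝒯.p hT (eqToHom (hfst (o s.1)).choose.symm) c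
    obtain ⟨θ₁, hθ₁, e₁⟩ := r1
    obtain ⟨θ₂, hθ₂, e₂⟩ := r2
    haveI : IsIso (𝒯.p.map c) := inferInstance
    haveI : IsIso θ₁ := Fib44.isIso_of_fibGrpd 𝒳.p hX (𝒯.p.map c) θ₁
    let χ : E.obj (o s.1) ⟶ E.obj (o s'.1) := fpHom t (inv θ₁ ≫ θ₂) (by
      have e3 : f.map (inv θ₁ ≫ θ₂) ≫ (E.obj (o s'.1)).obj.iso.inv = (E.obj (o s.1)).obj.iso.inv ≫ b.map (cl.map t) := by
        change f.map (inv θ₁ ≫ θ₂) ≫ (Qp (E.obj (o s'.1))).ι = (Qp (E.obj (o s.1))).ι ≫ b.map (cl.map t)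
        rw [f.map_comp, Category.assoc, e₂, ← ect, b.map_comp, ← reassoc_of% e₁, ← Category.assoc, ← f.map_comp,
          IsIso.inv_hom_id, f.map_id]
        exact Category.id_comp _
      rw [← cancel_mono (E.obj (o s'.1)).obj.iso.inv, Category.assoc, Category.assoc, e3, Iso.hom_inv_id,
        Category.comp_id, Iso.hom_inv_id_assoc]
      rfl)
    obtain ⟨χ₀, hχ₀⟩ := hd.full χ
    have hl : (ofSch Z).p.IsHomLift (eqToHom rfl : 𝒯.p.obj A' ⟶ 𝒯.p.obj A') χ₀ := by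
      rw [← BasedFunctor.isHomLift_iff E, hχ₀, Fib44.fp_isHomLift_iff]
      refine IsHomLift.of_fac' (overCat T).p (eqToHom rfl : 𝒯.p.obj A' ⟶ 𝒯.p.obj A') _ h h' ?_
      simp [χ, t, fpHom]
      rfl
    have h3 : χ₀.hom = 𝟙 _ := (@IsHomLift.fac' _ _ _ _ (ofSch Z).p _ _ _ _ _ χ₀ hl).trans (by simp)
    have h4 : χ₀.hom ≫ s'.1 = s.1 := congrArg ULift.down χ₀.map_sec
    rw [h3] at h4
    exact Subtype.ext ((Category.id_comp _).symm.trans h4).symm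
  · -- surjectivity
    intro ε'
    obtain ⟨π, rfl⟩ := cls_surjective ε'
    obtain ⟨c, ⟨hc1, hc2⟩, -⟩ := hfac (Over.mk (𝒯.p.map m)) m rfl (Category.id_comp _)
    haveI := hc1
    haveI : IsIso c := Fib44.isIso_of_fibGrpd 𝒯.p hT (eqToHom rfl : 𝒯.p.obj A' ⟶ 𝒯.p.obj A') c
    have hι := π.lift
    haveI : IsIso π.ι := Fib44.isIso_of_fibGrpd 𝒴.p hY (𝟙 (𝒯.p.obj A')) π.ι
    have hbc : 𝒴.p.IsHomLift (eqToHom rfl : 𝒯.p.obj A' ⟶ 𝒯.p.obj A') (b.map c) :=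
      BasedFunctor.preserves_isHomLift b (eqToHom rfl : 𝒯.p.obj A' ⟶ 𝒯.p.obj A') c
    have hbc' : 𝒴.p.IsHomLift (𝟙 (𝒯.p.obj A')) (π.ι ≫ b.map c) := by
      have := @IsHomLift.comp _ _ _ _ 𝒴.p _ _ _ _ _ _ _ _ _ _ hι hbc
      simpa using this
    let w₀ : (fp (BasedFunctor.comp cl b) f).obj := ⟨⟨Over.mk (𝒯.p.map m), π.x, (asIso (π.ι ≫ b.map c)).symm⟩,
      haveI : 𝒴.p.IsHomLift (𝟙 (𝒯.p.obj A')) (asIso (π.ι ≫ b.map c)).hom := hbc'
      IsHomLift.lift_id_inv (p := 𝒴.p) (𝒯.p.obj A') (asIso (π.ι ≫ b.map c))⟩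
    obtain ⟨⟨B, ⟨s₀⟩⟩, η₀, hη⟩ := hd.essSurj w₀
    have hB : B = 𝒯.p.obj A' := (E.w_obj _).symm.trans
      (@IsHomLift.domain_eq _ _ _ _ (fp (BasedFunctor.comp cl b) f).p _ _ _ _ _ η₀.hom hη)
    subst hB
    obtain ⟨h, hh⟩ := hfst (o s₀)
    have ht : (overCat T).p.IsHomLift (𝟙 (𝒯.p.obj A')) η₀.hom.hom.fst := (Fib44.fp_isHomLift_iff _ _).1 hη
    have h5 : η₀.hom.hom.fst.left = eqToHom h :=
      (@IsHomLift.fac' _ _ _ _ (overCat T).p _ _ _ _ _ η₀.hom.hom.fst ht).trans (by simp)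
    have hsz : s₀ ≫ z = 𝒯.p.map m := by
      have := Over.w η₀.hom.hom.fst
      rw [h5] at this
      exact ((cancel_epi (eqToHom h)).1 (hh.symm.trans this.symm)).trans rfl
    refine ⟨⟨s₀, hsz⟩, ?_⟩
    obtain ⟨hd1, hd2⟩ := (hc m ⟨s₀, hsz⟩).exists.choose_spec
    refine (res_cls_iff hX hY _ _ _).2 ?_
    set c₀ := (hc m ⟨s₀, hsz⟩).exists.choose
    have hcc : c₀ ≫ cl.map η₀.hom.hom.fst = c := by
      refine (hfac (Over.mk (𝒯.p.map m)) m rfl (Category.id_comp _)).unique ⟨?_, ?_⟩ ⟨hc1, hc2⟩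
      · have h1 : 𝒯.p.IsHomLift (eqToHom h) (cl.map η₀.hom.hom.fst) := by
          rw [← h5]
          haveI : (overCat T).p.IsHomLift η₀.hom.hom.fst.left η₀.hom.hom.fst := IsHomLift.map (overCat T).p η₀.hom.hom.fst
          exact BasedFunctor.preserves_isHomLift cl η₀.hom.hom.fst.left η₀.hom.hom.fst
        have h2 := @IsHomLift.comp _ _ _ _ 𝒯.p _ _ _ _ _ _ _ _ _ _ hd1 h1
        rwa [eqToHom_trans] at h2
      · rw [Category.assoc, hμnat, hd2]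
    have r0 : IsRes c π (Qp w₀) := by
      refine ⟨𝟙 π.x, ?_, ?_⟩
      · haveI := hc1
        have h6 : 𝒯.p.map c = eqToHom (cl.w_obj (Over.mk (𝒯.p.map m))).symm :=
          (IsHomLift.fac' 𝒯.p (eqToHom rfl : 𝒯.p.obj A' ⟶ 𝒯.p.obj A') c).trans (by simp)
        rw [h6]
        exact IsHomLift.of_fac' _ _ _ π.over (π.over.trans (cl.w_obj (Over.mk (𝒯.p.map m))).symm) (by simp)
      · change f.map (𝟙 π.x) ≫ (π.ι ≫ b.map c) = π.ι ≫ b.map c
        rw [f.map_id]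
        exact Category.id_comp _
    have r1 := hQ η₀.inv
    have h7 : c ≫ cl.map η₀.inv.hom.fst = c₀ := by
      rw [← hcc, Category.assoc, ← cl.map_comp,
        show η₀.hom.hom.fst ≫ η₀.inv.hom.fst = 𝟙 _ from congrArg (fun t => t.hom.fst) η₀.hom_inv_id, cl.map_id]
      exact Category.comp_id _
    exact (IsRes.comp r0 r1).congr h7
  · -- naturality
    intro A' A'' m n s
    let s'' : {t : 𝒯.p.obj A'' ⟶ Z // t ≫ z = 𝒯.p.map (n ≫ m)} :=
      ⟨𝒯.p.map n ≫ s.1, by rw [Category.assoc, s.2, Functor.map_comp]⟩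
    let oh : o s''.1 ⟶ o s.1 := ⟨𝒯.p.map n, rfl⟩
    obtain ⟨hc1, hc2⟩ := (hc m s).exists.choose_spec
    obtain ⟨hd1, hd2⟩ := (hc (n ≫ m) s'').exists.choose_spec
    set c := (hc m s).exists.choose
    set c₀ := (hc (n ≫ m) s'').exists.choose
    haveI : (ofSch Z).p.IsHomLift (𝒯.p.map n) oh := IsHomLift.map (ofSch Z).p oh
    haveI : (overCat T).p.IsHomLift (𝒯.p.map n) (E.map oh).hom.fst :=
      (Fib44.fp_isHomLift_iff _ _).1 (BasedFunctor.preserves_isHomLift E (𝒯.p.map n) oh)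
    have h1 : 𝒯.p.IsHomLift (𝒯.p.map n) (cl.map (E.map oh).hom.fst) :=
      BasedFunctor.preserves_isHomLift cl (𝒯.p.map n) (E.map oh).hom.fst
    have e : c₀ ≫ cl.map (E.map oh).hom.fst = n ≫ c := by
      refine fg_hom_ext hT (μ (E.obj (o s.1)).obj.fst) ?_ (by rw [Category.assoc, hμnat, hd2, Category.assoc, hc2])
      refine (Functor.map_comp _ _ _).trans (Eq.trans ?_ (Functor.map_comp _ _ _).symm)
      rw [@IsHomLift.fac' _ _ _ _ 𝒯.p _ _ _ _ _ c hc1,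
        @IsHomLift.fac' _ _ _ _ 𝒯.p _ _ _ _ _ c₀ hd1, @IsHomLift.fac' _ _ _ _ 𝒯.p _ _ _ _ _ _ h1]
      simp
    have hr := (res_cls_iff hX hY _ _ _).2 (hQ (E.map oh))
    change res hX hY n (res hX hY c (cls (Qp (E.obj (o s.1))))) = res hX hY c₀ (cls (Qp (E.obj (o s''.1))))
    rw [← res_comp, ← e, res_comp, hr]

/-- Isomorphism classes of pairs over the objects mapping to `A` are the sections of an affine scheme. -/
theorem exists_affine_rep (hT : IsFibGrpd 𝒯.p) (hX : IsFibGrpd 𝒳.p) (hY : IsFibGrpd 𝒴.p)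
    [f.toFunctor.Faithful] (hf : RepByAlgSpWith (AlgSp.RepWith @IsAffineHom) f) (A : 𝒯.obj) :
    ∃ (Z : Over S) (z : Z ⟶ 𝒯.p.obj A)
      (Φ : ∀ {A' : 𝒯.obj} (m : A' ⟶ A), {s : 𝒯.p.obj A' ⟶ Z // s ≫ z = 𝒯.p.map m} → Cls f b A'),
      IsAffineHom z.left ∧ (∀ {A' : 𝒯.obj} (m : A' ⟶ A), Function.Bijective (Φ m)) ∧
      ∀ {A' A'' : 𝒯.obj} (m : A' ⟶ A) (n : A'' ⟶ A') (s : {s : 𝒯.p.obj A' ⟶ Z // s ≫ z = 𝒯.p.map m}),
        res hX hY n (Φ m s) = Φ (n ≫ m) ⟨𝒯.p.map n ≫ s.1, by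
          rw [Category.assoc, s.2, Functor.map_comp]⟩ :=
  exists_rep_with hT hX hY hf A

end Groth.Agent.Theta44
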